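import Groth.Agent.EtaleSite.Covers
import Groth.Prelude.Def_EtBase
import Mathlib.CategoryTheory.Sites.Limits
import Mathlib.CategoryTheory.Limits.ConcreteCategory.Basic
import Mathlib.CategoryTheory.Filtered.Basic
import Mathlib.AlgebraicGeometry.Morphisms.Etale
import Mathlib.AlgebraicGeometry.Morphisms.QuasiSeparated
import Mathlib.AlgebraicGeometry.Morphisms.FlatMono

/-!
# Sections over quasi-compact objects of the small étale site and filtered colimits
-/

universe w w' u

open CategoryTheory CategoryTheory.Limits AlgebraicGeometry Opposite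

namespace Groth.Agent.EtColim.Sections

variable {X : Scheme.{u}}

/-- The fibre product of two objects over a third one. -/
noncomputable def overlap {U V V' : X.Etale} (g : V ⟶ U) (g' : V' ⟶ U) : X.Etale :=
  haveI : Etale V.hom := V.prop
  haveI : Etale V'.hom := V'.prop
  haveI : Etale U.hom := U.prop
  haveI : Etale (g'.left ≫ U.hom) := by rw [MorphismProperty.Over.w g']; exact V'.prop
  haveI : Etale g'.left := Etale.of_comp g'.left U.hom
  Scheme.Etale.mk (pullback.fst g.left g'.left ≫ V.hom)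

noncomputable def overlapFst {U V V' : X.Etale} (g : V ⟶ U) (g' : V' ⟶ U) : overlap g g' ⟶ V :=
  MorphismProperty.Over.homMk (pullback.fst g.left g'.left) rfl trivial

noncomputable def overlapSnd {U V V' : X.Etale} (g : V ⟶ U) (g' : V' ⟶ U) : overlap g g' ⟶ V' :=
  MorphismProperty.Over.homMk (pullback.snd g.left g'.left) (by
    show pullback.snd g.left g'.left ≫ V'.hom = pullback.fst g.left g'.left ≫ V.hom
    rw [← MorphismProperty.Over.w g', ← MorphismProperty.Over.w g, pullback.condition_assoc]) trivial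

theorem overlap_w {U V V' : X.Etale} (g : V ⟶ U) (g' : V' ⟶ U) :
    overlapFst g g' ≫ g = overlapSnd g g' ≫ g' :=
  MorphismProperty.Over.Hom.ext pullback.condition

theorem exists_factor {U V V' Z : X.Etale} (g : V ⟶ U) (g' : V' ⟶ U) (a : Z ⟶ V) (b : Z ⟶ V')
    (h : a ≫ g = b ≫ g') : ∃ c : Z ⟶ overlap g g', c ≫ overlapFst g g' = a ∧ c ≫ overlapSnd g g' = b := by
  refine ⟨MorphismProperty.Over.homMk (pullback.lift a.left b.left (congrArg (fun q => q.left) h)) ?_ trivial,
    MorphismProperty.Over.Hom.ext (pullback.lift_fst _ _ _),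
    MorphismProperty.Over.Hom.ext (pullback.lift_snd _ _ _)⟩
  show pullback.lift a.left b.left _ ≫ pullback.fst g.left g'.left ≫ V.hom = Z.hom
  rw [pullback.lift_fst_assoc]
  exact MorphismProperty.Over.w a

theorem compactSpace_overlap {U V V' : X.Etale} [QuasiSeparatedSpace U.left] [CompactSpace V.left]
    [CompactSpace V'.left] (g : V ⟶ U) (g' : V' ⟶ U) : CompactSpace (overlap g g').left := by
  haveI : QuasiCompact g'.left := quasiCompact_of_compactSpace g'.left
  have h : QuasiCompact (pullback.fst g.left g'.left) :=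
    MorphismProperty.pullback_fst (P := @QuasiCompact) g.left g'.left ‹QuasiCompact g'.left›
  exact @QuasiCompact.compactSpace_of_compactSpace _ _ (pullback.fst g.left g'.left) h ‹CompactSpace V.left›

/-- A covering sieve of a quasi-compact object contains finitely many affine schemes covering it. -/
theorem exists_finite_refinement {U : X.Etale} [CompactSpace U.left] {S : Sieve U}
    (hS : S ∈ X.smallEtaleTopology U) :
    ∃ (ι : Type u) (_ : Finite ι) (V : ι → X.Etale) (g : ∀ k, V k ⟶ U), (∀ k, S (g k)) ∧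
      (∀ k, IsAffine (V k).left) ∧ ∀ u : U.left, ∃ (k : ι) (v : (V k).left), (g k).left v = u := by
  classical
  choose V₀ g₀ v₀ hg₀ hv₀ using Groth.Agent.EtaleSite.Covers.exists_of_mem hS
  have hW : ∀ u, ∃ W : (V₀ u).left.Opens, IsAffineOpen W ∧ v₀ u ∈ W := fun u => by
    obtain ⟨_, ⟨W, hW, rfl⟩, hv, -⟩ := (V₀ u).left.isBasis_affineOpens.exists_subset_of_mem_open
      (Set.mem_univ (v₀ u)) isOpen_univ
    exact ⟨W, hW, hv⟩
  choose W hWa hWv using hW
  let A : ∀ u, X.Etale := fun u =>
    haveI : Etale (V₀ u).hom := (V₀ u).prop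
    Scheme.Etale.mk ((W u).ι ≫ (V₀ u).hom)
  let a : ∀ u, A u ⟶ V₀ u := fun u => MorphismProperty.Over.homMk (W u).ι rfl trivial
  have ho : ∀ u, IsOpen (Set.range (a u ≫ g₀ u).left) := fun u => by
    haveI : Etale (A u).hom := (A u).prop
    haveI : Etale U.hom := U.prop
    have hw : (a u ≫ g₀ u).left ≫ U.hom = (A u).hom := MorphismProperty.Over.w _
    haveI : Etale ((a u ≫ g₀ u).left ≫ U.hom) := hw.symm ▸ (A u).prop
    haveI : Etale (a u ≫ g₀ u).left := Etale.of_comp _ U.hom
    exact (a u ≫ g₀ u).left.isOpenMap.isOpen_range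
  obtain ⟨t, ht⟩ := isCompact_univ.elim_finite_subcover (fun u => Set.range (a u ≫ g₀ u).left) ho
    fun u _ => Set.mem_iUnion.2 ⟨u, ⟨v₀ u, hWv u⟩, hv₀ u⟩
  refine ⟨t, inferInstance, fun k => A k.1, fun k => a k.1 ≫ g₀ k.1,
    fun k => S.downward_closed (hg₀ _) _, fun k => hWa _, fun u => ?_⟩
  obtain ⟨u', hu', v, hv⟩ := Set.mem_iUnion₂.1 (ht (Set.mem_univ u))
  exact ⟨⟨u', hu'⟩, v, hv⟩

section Glue

variable (F : EtCoh.Ab X) {U : X.Etale} {ι : Type u} {V : ι → X.Etale} (g : ∀ k, V k ⟶ U)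
  (hg : ∀ u : U.left, ∃ (k : ι) (v : (V k).left), (g k).left v = u)

include hg

theorem exists_unique_glue (x : ∀ k, EtCoh.sect F (V k))
    (hx : ∀ k l, F.obj.map (overlapFst (g k) (g l)).op (x k) = F.obj.map (overlapSnd (g k) (g l)).op (x l)) :
    ∃! t : EtCoh.sect F U, ∀ k, F.obj.map (g k).op t = x k := by
  have hF : Presieve.IsSheaf X.smallEtaleTopology (F.obj ⋙ forget AddCommGrpCat.{u + 1}) :=
    (isSheaf_iff_isSheaf_of_type _ _).1
      ((Presheaf.isSheaf_iff_isSheaf_forget _ F.obj (forget AddCommGrpCat.{u + 1})).1 F.property)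
  have hmem : Sieve.generate (Presieve.ofArrows V g) ∈ X.smallEtaleTopology U :=
    Groth.Agent.EtaleSite.mem_topology_of_forall_exists _ fun u => by
      obtain ⟨k, v, hv⟩ := hg u
      exact ⟨V k, g k, v, Sieve.le_generate _ _ _ (Presieve.ofArrows.mk k), hv⟩
  have := (Presieve.isSheafFor_iff_generate _).2 (hF _ hmem)
  rw [Presieve.isSheafFor_arrows_iff] at this
  refine this x fun k l Z a b hab => ?_
  obtain ⟨c, rfl, rfl⟩ := exists_factor (g k) (g l) a b hab
  simp only [op_comp, Functor.map_comp]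
  exact congrArg ((F.obj ⋙ forget AddCommGrpCat.{u + 1}).map c.op) (hx k l)

theorem ext_of_cover (s t : EtCoh.sect F U) (h : ∀ k, F.obj.map (g k).op s = F.obj.map (g k).op t) :
    s = t :=
  (exists_unique_glue F g hg (fun k => F.obj.map (g k).op t) fun k l => by
    rw [← ConcreteCategory.comp_apply, ← Functor.map_comp, ← ConcreteCategory.comp_apply,
      ← Functor.map_comp, ← op_comp, ← op_comp, overlap_w]).unique h fun _ => rfl

end Glue

section Colimit

variable {I : Type w} [Category.{w'} I] [IsFiltered I]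
  [HasColimitsOfShape I AddCommGrpCat.{u + 1}]
  [PreservesColimitsOfShape I (forget AddCommGrpCat.{u + 1})]
  (D : I ⥤ EtCoh.Ab X)

omit [HasColimitsOfShape I AddCommGrpCat.{u + 1}] [PreservesColimitsOfShape I (forget AddCommGrpCat.{u + 1})] in
theorem exists_bound {ι : Type*} [Finite ι] {i : I} (j : ι → I) (φ : ∀ k, i ⟶ j k) :
    ∃ (m : I) (ψ : i ⟶ m), ∀ k, ∃ χ : j k ⟶ m, φ k ≫ χ = ψ := by
  classical
  have := Fintype.ofFinite ι
  suffices H : ∀ s : Finset ι, ∃ (m : I) (ψ : i ⟶ m), ∀ k ∈ s, ∃ χ : j k ⟶ m, φ k ≫ χ = ψ by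
    obtain ⟨m, ψ, h⟩ := H Finset.univ
    exact ⟨m, ψ, fun k => h k (Finset.mem_univ k)⟩
  intro s
  induction s using Finset.induction_on with
  | empty => exact ⟨i, 𝟙 i, fun k hk => absurd hk (Finset.notMem_empty k)⟩
  | insert a s _ ih =>
    obtain ⟨m, ψ, hm⟩ := ih
    obtain ⟨n, α, β, h⟩ := IsFiltered.span ψ (φ a)
    refine ⟨n, ψ ≫ α, fun k hk => ?_⟩
    rcases Finset.mem_insert.1 hk with rfl | hk'
    · exact ⟨β, h.symm⟩
    · obtain ⟨χ, hχ⟩ := hm k hk'
      exact ⟨χ ≫ α, by rw [← hχ, Category.assoc]⟩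

/-- A section becoming zero in a filtered colimit of sheaves becomes zero at a finite stage. -/
theorem exists_map_eq_zero (c : Cocone D) (hc : IsColimit c) (U : X.Etale) [CompactSpace U.left] {i : I}
    (t : EtCoh.sect (D.obj i) U) (ht : (c.ι.app i).hom.app (op U) t = 0) :
    ∃ (j : I) (φ : i ⟶ j), (D.map φ).hom.app (op U) t = 0 := by
  let E := colimit.cocone (D ⋙ sheafToPresheaf X.smallEtaleTopology AddCommGrpCat.{u + 1})
  let e := hc.coconePointUniqueUpToIso (Sheaf.isColimitSheafifyCocone E (colimit.isColimit _))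
  have h0 : (toSheafify X.smallEtaleTopology E.pt).app (op U) ((E.ι.app i).app (op U) t) =
      (toSheafify X.smallEtaleTopology E.pt).app (op U) 0 := by
    rw [map_zero]
    have h1 : c.ι.app i ≫ e.hom = (Sheaf.sheafifyCocone E).ι.app i :=
      IsColimit.comp_coconePointUniqueUpToIso_hom _ _ _
    have h2 : ((Sheaf.sheafifyCocone E).ι.app i).hom.app (op U) t = 0 := by
      rw [← h1]
      show e.hom.hom.app (op U) ((c.ι.app i).hom.app (op U) t) = 0
      rw [ht, map_zero]
    rw [Sheaf.sheafifyCocone_ι_app_val] at h2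
    exact h2
  obtain ⟨κ, _, V, g, hg, -, hsurj⟩ :=
    exists_finite_refinement (Presheaf.equalizerSieve_mem X.smallEtaleTopology
      (toSheafify X.smallEtaleTopology E.pt) _ _ h0)
  have hk : ∀ k : κ, ∃ (j : I) (φ : i ⟶ j),
      (D.map φ).hom.app (op (V k)) ((D.obj i).obj.map (g k).op t) = 0 := fun k => by
    have hz : (E.ι.app i).app (op (V k)) ((D.obj i).obj.map (g k).op t) =
        (E.ι.app i).app (op (V k)) 0 := by
      refine (NatTrans.naturality_apply (E.ι.app i) (g k).op t).trans ((hg k).trans ?_)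
      rw [map_zero, map_zero]
    have hev := isColimitOfPreserves
      ((evaluation X.Etaleᵒᵖ AddCommGrpCat.{u + 1}).obj (op (V k))) (colimit.isColimit
        (D ⋙ sheafToPresheaf X.smallEtaleTopology AddCommGrpCat.{u + 1}))
    obtain ⟨j, φ, ψ, hφ⟩ := (Concrete.isColimit_rep_eq_iff_exists _ hev _ _).1 hz
    exact ⟨j, φ, hφ.trans (map_zero ((D.map ψ).hom.app (op (V k))).hom)⟩
  choose j φ hφ using hk
  obtain ⟨m, ψ, hm⟩ := exists_bound j φ
  refine ⟨m, ψ, ext_of_cover (D.obj m) g
    hsurj _ _ fun k => ?_⟩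
  rw [map_zero]
  obtain ⟨χ, hχ⟩ := hm k
  refine (NatTrans.naturality_apply (D.map ψ).hom (g k).op t).symm.trans ?_
  rw [← hχ, Functor.map_comp]
  show (D.map χ).hom.app _ ((D.map (φ k)).hom.app _ ((D.obj i).obj.map (g k).op t)) = 0
  rw [hφ, map_zero]

/-- Two sections equal in a filtered colimit of sheaves are equal at a finite stage. -/
theorem exists_map_eq (c : Cocone D) (hc : IsColimit c) (U : X.Etale) [CompactSpace U.left] {i : I}
    (s t : EtCoh.sect (D.obj i) U)
    (h : (c.ι.app i).hom.app (op U) s = (c.ι.app i).hom.app (op U) t) :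
    ∃ (j : I) (φ : i ⟶ j), (D.map φ).hom.app (op U) s = (D.map φ).hom.app (op U) t := by
  obtain ⟨j, φ, hj⟩ := exists_map_eq_zero D c hc U (s - t) (by rw [map_sub, h, sub_self])
  exact ⟨j, φ, sub_eq_zero.1 (by rw [← map_sub]; exact hj)⟩

/-- Every section of a filtered colimit of sheaves over a quasi-compact quasi-separated object comes
from a finite stage. -/
theorem exists_rep (c : Cocone D) (hc : IsColimit c) (U : X.Etale) [CompactSpace U.left]
    [QuasiSeparatedSpace U.left] (s : EtCoh.sect c.pt U) :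
    ∃ (i : I) (t : EtCoh.sect (D.obj i) U), (c.ι.app i).hom.app (op U) t = s := by
  classical
  let E := colimit.cocone (D ⋙ sheafToPresheaf X.smallEtaleTopology AddCommGrpCat.{u + 1})
  let e := hc.coconePointUniqueUpToIso (Sheaf.isColimitSheafifyCocone E (colimit.isColimit _))
  obtain ⟨κ, _, V, g, hg, ha, hsurj⟩ := exists_finite_refinement (Presheaf.imageSieve_mem X.smallEtaleTopology
    (toSheafify X.smallEtaleTopology E.pt) (e.hom.hom.app (op U) s))
  have hk : ∀ k : κ, ∃ (i : I) (t : EtCoh.sect (D.obj i) (V k)),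
      (c.ι.app i).hom.app (op (V k)) t = c.pt.obj.map (g k).op s := fun k => by
    obtain ⟨p, hp⟩ := hg k
    have hev := isColimitOfPreserves
      ((evaluation X.Etaleᵒᵖ AddCommGrpCat.{u + 1}).obj (op (V k))) (colimit.isColimit
        (D ⋙ sheafToPresheaf X.smallEtaleTopology AddCommGrpCat.{u + 1}))
    obtain ⟨i, t, rfl⟩ := Concrete.isColimit_exists_rep _ hev p
    refine ⟨i, t, (ConcreteCategory.bijective_of_isIso
      (((sheafToPresheaf _ _).mapIso e).app (op (V k))).hom).1 ?_⟩
    have h1 : c.ι.app i ≫ e.hom = (Sheaf.sheafifyCocone E).ι.app i :=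
      IsColimit.comp_coconePointUniqueUpToIso_hom _ _ _
    have h2 : e.hom.hom.app (op (V k)) ((c.ι.app i).hom.app (op (V k)) t) =
        (toSheafify X.smallEtaleTopology E.pt).app (op (V k)) ((E.ι.app i).app (op (V k)) t) := by
      show (c.ι.app i ≫ e.hom).hom.app (op (V k)) t = _
      rw [h1, Sheaf.sheafifyCocone_ι_app_val]
      rfl
    exact h2.trans (hp.trans (NatTrans.naturality_apply e.hom.hom (g k).op s).symm)
  choose i t ht using hk
  letI := Fintype.ofFinite κ
  obtain ⟨i₀, hi₀⟩ := IsFiltered.sup_objs_exists (Finset.univ.image i)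
  let u : ∀ k, i k ⟶ i₀ := fun k => (hi₀ (Finset.mem_image_of_mem _ (Finset.mem_univ k))).some
  let t' : ∀ k, EtCoh.sect (D.obj i₀) (V k) := fun k => (D.map (u k)).hom.app (op (V k)) (t k)
  have ht' : ∀ k, (c.ι.app i₀).hom.app (op (V k)) (t' k) = c.pt.obj.map (g k).op s := fun k => by
    rw [← ht k, ← c.w (u k)]
    rfl
  have hov : ∀ q : κ × κ, ∃ (j : I) (φ : i₀ ⟶ j),
      (D.map φ).hom.app (op (overlap (g q.1) (g q.2)))
          ((D.obj i₀).obj.map (overlapFst (g q.1) (g q.2)).op (t' q.1)) =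
        (D.map φ).hom.app (op (overlap (g q.1) (g q.2)))
          ((D.obj i₀).obj.map (overlapSnd (g q.1) (g q.2)).op (t' q.2)) := fun q => by
    have := ha q.1
    have := ha q.2
    have := compactSpace_overlap (g q.1) (g q.2)
    refine exists_map_eq D c hc _ _ _ ?_
    rw [NatTrans.naturality_apply, NatTrans.naturality_apply]
    refine (congrArg (c.pt.obj.map (overlapFst (g q.1) (g q.2)).op) (ht' q.1)).trans
      (Eq.trans ?_ (congrArg (c.pt.obj.map (overlapSnd (g q.1) (g q.2)).op) (ht' q.2)).symm)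
    rw [← ConcreteCategory.comp_apply, ← Functor.map_comp, ← ConcreteCategory.comp_apply,
      ← Functor.map_comp, ← op_comp, ← op_comp, overlap_w]
  choose j φ hφ using hov
  obtain ⟨m, ψ, hm⟩ := exists_bound j φ
  obtain ⟨T, hT, -⟩ := exists_unique_glue (D.obj m) g
    hsurj
    (fun k => (D.map ψ).hom.app (op (V k)) (t' k)) fun k l => by
      obtain ⟨χ, hχ⟩ := hm (k, l)
      refine (NatTrans.naturality_apply (D.map ψ).hom _ _).symm.trans
        (Eq.trans ?_ (NatTrans.naturality_apply (D.map ψ).hom _ _))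
      rw [← hχ, Functor.map_comp]
      exact congrArg ((D.map χ).hom.app (op (overlap (g k) (g l)))) (hφ (k, l))
  refine ⟨m, T, ext_of_cover c.pt g
    hsurj _ _ fun k => ?_⟩
  rw [← ht' k, ← c.w ψ]
  refine (NatTrans.naturality_apply (c.ι.app m).hom (g k).op T).symm.trans ?_
  rw [hT k]
  rfl

end Colimit

end Groth.Agent.EtColim.Sections
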