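import Mathlib.Algebra.Category.Grp.FilteredColimits
import Mathlib.Algebra.Category.Grp.Colimits
import Mathlib.Algebra.Category.Grp.Limits
import Mathlib.Algebra.Homology.ShortComplex.Ab
import Mathlib.Algebra.Homology.ShortComplex.HomologicalComplex
import Mathlib.CategoryTheory.Limits.Types.Filtered

/-!
# Elementwise criteria for filtered colimits of groups and for homology classes
-/

set_option autoImplicit false

universe w w' v

open CategoryTheory Limits

namespace Groth.Agent.EtColim.AbColim

/-- An elementwise criterion for a filtered colimit of groups. -/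
theorem nonempty_isColimit {J : Type w} [Category.{w'} J] [IsFiltered J]
    [HasColimitsOfShape J AddCommGrpCat.{v}] [PreservesColimitsOfShape J (forget AddCommGrpCat.{v})]
    {F : J ⥤ AddCommGrpCat.{v}} (c : Cocone F) (hsurj : ∀ x : c.pt, ∃ (i : J) (y : F.obj i), c.ι.app i y = x)
    (hzero : ∀ (i : J) (y : F.obj i), c.ι.app i y = 0 → ∃ (j : J) (f : i ⟶ j), F.map f y = 0) :
    Nonempty (IsColimit c) := by
  let t := colimit.desc F c
  suffices h : IsIso t by exact ⟨@IsColimit.ofPointIso _ _ _ _ _ _ _ (colimit.isColimit F) h⟩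
  have hι : ∀ (i : J) (y : F.obj i), t (colimit.ι F i y) = c.ι.app i y := fun i y =>
    ConcreteCategory.congr_hom (colimit.ι_desc c i) y
  refine (ConcreteCategory.isIso_iff_bijective t).mpr ⟨?_, fun x => ?_⟩
  · refine (injective_iff_map_eq_zero t.hom).mpr fun z hz => ?_
    obtain ⟨i, y, rfl⟩ := Concrete.colimit_exists_rep F z
    obtain ⟨j, f, hf⟩ := hzero i y ((hι i y).symm.trans hz)
    rw [← colimit.w F f, ConcreteCategory.comp_apply, hf, map_zero]
  · obtain ⟨i, y, rfl⟩ := hsurj x
    exact ⟨colimit.ι F i y, hι i y⟩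

variable {K L : CochainComplex AddCommGrpCat.{v} ℕ} (n : ℕ)

/-- Every class is represented by a cocycle. -/
theorem exists_class (z : K.homology n) :
    ∃ (x : K.cycles n), K.homologyπ n x = z :=
  (AddCommGrpCat.epi_iff_surjective (K.homologyπ n)).1 inferInstance z

/-- The underlying cochain of a cocycle. -/
theorem d_iCycles (x : K.cycles n) (m : ℕ) : K.d n m (K.iCycles n x) = 0 :=
  (ConcreteCategory.congr_hom (K.iCycles_d n m) x).trans rfl

/-- Cocycles from cochains. -/
theorem exists_cycles (x : K.X n) (hx : K.d n (n + 1) x = 0) :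
    ∃ z : K.cycles n, K.iCycles n z = x := by
  have hx' : (K.sc n).g x = 0 := by
    show K.d n ((ComplexShape.up ℕ).next n) x = 0
    rw [CochainComplex.next]
    exact hx
  exact ⟨(K.sc n).abCyclesIso.inv ⟨x, hx'⟩, ShortComplex.abCyclesIso_inv_apply_iCycles (K.sc n) ⟨x, hx'⟩⟩

/-- A class vanishes iff the cocycle is a coboundary. -/
theorem homologyπ_eq_zero_iff (x : K.cycles n) :
    K.homologyπ n x = 0 ↔
      ∃ y : K.X ((ComplexShape.up ℕ).prev n), K.d ((ComplexShape.up ℕ).prev n) n y = K.iCycles n x := by
  have hinj : Function.Injective (K.iCycles n) :=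
    (AddCommGrpCat.mono_iff_injective _).1 inferInstance
  let S := ShortComplex.mk (K.toCycles ((ComplexShape.up ℕ).prev n) n) (K.homologyπ n)
    (K.toCycles_comp_homologyπ _ _)
  have hS : S.Exact := S.exact_of_g_is_cokernel (K.homologyIsCokernel _ n rfl)
  have key : ∀ y, K.iCycles n (K.toCycles ((ComplexShape.up ℕ).prev n) n y) =
      K.d ((ComplexShape.up ℕ).prev n) n y := fun y =>
    ConcreteCategory.congr_hom (K.toCycles_i _ _) y
  constructor
  · intro h
    obtain ⟨y, hy⟩ := (ShortComplex.ab_exact_iff S).1 hS x h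
    exact ⟨y, by rw [← key]; exact congrArg (K.iCycles n) hy⟩
  · rintro ⟨y, hy⟩
    rw [← key] at hy
    rw [← hinj hy]
    exact (ConcreteCategory.congr_hom S.zero y).trans rfl

/-- The map on classes, on cocycles. -/
theorem homologyMap_π (φ : K ⟶ L) (x : K.cycles n) :
    HomologicalComplex.homologyMap φ n (K.homologyπ n x) =
      L.homologyπ n (HomologicalComplex.cyclesMap φ n x) :=
  ConcreteCategory.congr_hom (HomologicalComplex.homologyπ_naturality φ n) x

theorem iCycles_map (φ : K ⟶ L) (x : K.cycles n) :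
    L.iCycles n (HomologicalComplex.cyclesMap φ n x) = φ.f n (K.iCycles n x) :=
  ConcreteCategory.congr_hom (HomologicalComplex.cyclesMap_i φ n) x

end Groth.Agent.EtColim.AbColim
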