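import Groth.Agent.EtColim.CechColim
import Groth.Agent.EtColim.AbColim
import Groth.Agent.EtaleSite.Stalk
import Groth.Agent.SiteCoh.DimShift
import Groth.Prelude.Def_EtCore
import Mathlib.CategoryTheory.Abelian.GrothendieckCategory.EnoughInjectives
import Mathlib.CategoryTheory.Sites.EpiMono
import Mathlib.Algebra.Homology.DerivedCategory.Ext.ExactSequences

/-!
# Étale cohomology commutes with filtered colimits

A sheaf is compactly acyclic when its Čech complexes of finite coverings of quasi-compact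
quasi-separated objects by such objects are exact in positive degrees.  Injective sheaves are
compactly acyclic, the class is closed under quotients and filtered colimits, and compactly acyclic
sheaves have no higher cohomology on a quasi-compact quasi-separated scheme.
-/

set_option autoImplicit false
set_option backward.isDefEq.respectTransparency false

universe u

open CategoryTheory CategoryTheory.Limits AlgebraicGeometry Opposite CategoryTheory.Abelian

noncomputable section

namespace Groth.Agent.EtColim.CohColim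

open Groth.Agent.EtColim.Sections Groth.Agent.EtaleSite.CechPre Groth.Agent.EtColim.CechColim

variable {X : Scheme.{u}}

/-- Čech exactness on finite coverings of quasi-compact quasi-separated objects. -/
def IsCompactAcyclic (F : EtCoh.Ab X) : Prop :=
  ∀ (U : X.Etale) [CompactSpace U.left] [QuasiSeparatedSpace U.left] (ι : Type (u + 1)) [Finite ι]
    (Uf : ι → Over U), (∀ i, CompactSpace (Uf i).left.left) →
    (∀ i, QuasiSeparatedSpace (Uf i).left.left) →
    (∀ x : U.left, ∃ (i : ι) (y : (Uf i).left.left), (Uf i).hom.left y = x) →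
    ∀ (p : ℕ) (x : (EtCech.cechComplex Uf F.obj).X (p + 1)),
      (EtCech.cechComplex Uf F.obj).d (p + 1) (p + 1 + 1) x = 0 →
      ∃ y, (EtCech.cechComplex Uf F.obj).d p (p + 1) y = x

theorem isCompactAcyclic_of_injective (I : EtCoh.Ab X) [Injective I] : IsCompactAcyclic I := by
  intro U _ _ ι _ Uf _ _ _ p x hx
  haveI : Injective I.obj := Injective.injective_of_adjoint
    (sheafificationAdjunction X.smallEtaleTopology AddCommGrpCat.{u + 1}) I
  have h := (HomologicalComplex.exactAt_iff_isZero_homology _ _).2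
    (isZero_cechH_injective Uf I.obj p)
  rw [HomologicalComplex.exactAt_iff' _ p (p + 1) (p + 1 + 1) (by simp) (by simp),
    ShortComplex.ab_exact_iff] at h
  exact h x hx

/-- A filtered colimit of compactly acyclic sheaves is compactly acyclic. -/
theorem isCompactAcyclic_colimit {J : Type u} [SmallCategory J] [IsFiltered J] {D : J ⥤ EtCoh.Ab X}
    {c : Cocone D} (hD : IsColimit c) (h : ∀ j, IsCompactAcyclic (D.obj j)) :
    IsCompactAcyclic c.pt := by
  intro U _ _ ι _ Uf hc hq hU p x hx
  obtain ⟨j, x', rfl, hx'⟩ := exists_cocycle_rep Uf hD hc hq (p + 1) (p + 1 + 1) x hx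
  obtain ⟨y, hy⟩ := h j U ι Uf hc hq hU p x' hx'
  exact ⟨chmap Uf (c.ι.app j) p y, ((chmap_d Uf (c.ι.app j) p (p + 1) y).symm.trans (by rw [hy]))⟩

theorem map_map (P : X.Etaleᵒᵖ ⥤ AddCommGrpCat.{u + 1}) {A B C : X.Etale} (f : A ⟶ B) (g : B ⟶ C)
    (x : P.obj (op C)) : P.map f.op (P.map g.op x) = P.map (f ≫ g).op x := by
  rw [op_comp, Functor.map_comp, ConcreteCategory.comp_apply]

section Quotient

variable {S : ShortComplex (EtCoh.Ab X)} (hS : S.ShortExact)

include hS in
lemma injective_app (W : X.Etale) : Function.Injective (S.f.hom.app (op W)) := by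
  have := hS.mono_f
  haveI : Mono S.f.hom := (sheafToPresheaf X.smallEtaleTopology AddCommGrpCat.{u + 1}).map_mono S.f
  exact (AddCommGrpCat.mono_iff_injective _).1
    (((evaluation _ AddCommGrpCat.{u + 1}).obj (op W)).map_mono S.f.hom)

include hS in
lemma exact_app (W : X.Etale) (x : EtCoh.sect S.X₂ W) (hx : S.g.hom.app (op W) x = 0) :
    ∃ y, S.f.hom.app (op W) y = x := by
  have hmono : Mono ((sheafToPresheaf X.smallEtaleTopology AddCommGrpCat.{u + 1}).map S.f) :=
    have := hS.mono_f
    (sheafToPresheaf X.smallEtaleTopology AddCommGrpCat.{u + 1}).map_mono S.f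
  exact (ShortComplex.ab_exact_iff _).1
    ((hS.exact.map_of_mono_of_preservesKernel (sheafToPresheaf X.smallEtaleTopology _) hS.mono_f
      inferInstance).map_of_mono_of_preservesKernel ((evaluation _ AddCommGrpCat.{u + 1}).obj (op W))
        hmono inferInstance) x hx

include hS in
set_option maxHeartbeats 1000000 in
/-- Sections lift along a quotient of a compactly acyclic subsheaf. -/
theorem surjective_sections (h₁ : IsCompactAcyclic S.X₁) (U : X.Etale) [CompactSpace U.left]
    [QuasiSeparatedSpace U.left] : Function.Surjective (S.g.hom.app (op U)) := by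
  intro s
  have := hS.epi_g
  have hloc : Presheaf.IsLocallySurjective X.smallEtaleTopology S.g.hom :=
    (Sheaf.isLocallySurjective_iff_epi' AddCommGrpCat.{u + 1} S.g).2 inferInstance
  have hfin := exists_finite_refinement (hloc.imageSieve_mem s)
  obtain ⟨κ, hκ, V, g, hg, ha, hsurj⟩ := hfin
  choose t ht using hg
  let Uf : ULift.{u + 1} κ → Over U := fun k => Over.mk (g k.down)
  have hc : ∀ k, CompactSpace (Uf k).left.left := fun k => by
    have := ha k.down
    exact inferInstanceAs (CompactSpace (V k.down).left)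
  have hq : ∀ k, QuasiSeparatedSpace (Uf k).left.left := fun k => by
    have := ha k.down
    exact inferInstanceAs (QuasiSeparatedSpace (V k.down).left)
  have hU : ∀ x : U.left, ∃ (k : ULift.{u + 1} κ) (y : (Uf k).left.left), (Uf k).hom.left y = x :=
    fun x => by
      obtain ⟨k, v, hv⟩ := hsurj x
      exact ⟨⟨k⟩, v, hv⟩
  let c₀ : (EtCech.cechComplex Uf S.X₂.obj).X 0 :=
    mk Uf S.X₂.obj fun a => S.X₂.obj.map (π Uf a 0).op (t (a 0).down)
  have hd : ∀ b : Fin 2 → ULift.{u + 1} κ, ∃ z : EtCoh.sect S.X₁ (obj Uf b),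
      S.f.hom.app _ z = comp Uf S.X₂.obj b ((EtCech.cechComplex Uf S.X₂.obj).d 0 (0 + 1) c₀) := by
    intro b
    refine exact_app hS _ _ ?_
    have hk : ∀ k : Fin 2, S.g.hom.app (op (obj Uf b))
        (S.X₂.obj.map (face Uf b k).op (comp Uf S.X₂.obj (b ∘ k.succAbove) c₀)) =
          S.X₃.obj.map (∏ᶜ (Uf ∘ b)).hom.op s := fun k => by
      rw [comp_mk, NatTrans.naturality_apply, NatTrans.naturality_apply]
      refine (congrArg (fun z => S.X₃.obj.map (face Uf b k).op
        (S.X₃.obj.map (π Uf (b ∘ k.succAbove) 0).op z)) (ht _)).trans ?_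
      refine ((congrArg (S.X₃.obj.map (face Uf b k).op) (map_map S.X₃.obj _ _ _)).trans
        (map_map S.X₃.obj _ _ _)).trans ?_
      refine congrArg (fun q : obj Uf b ⟶ U => S.X₃.obj.map q.op s) ?_
      exact (Category.assoc _ _ _).symm.trans
        ((congrArg (· ≫ (Uf ((b ∘ k.succAbove) 0)).hom) (face_π Uf b k 0)).trans
          (π_hom Uf b (k.succAbove 0)))
    rw [comp_d_apply, Fin.sum_univ_two]
    simp only [map_add, map_zsmul, hk]
    simp
  choose z hz using hd
  let zc : (EtCech.cechComplex Uf S.X₁.obj).X (0 + 1) := mk Uf S.X₁.obj z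
  have hfz : chmap Uf S.f (0 + 1) zc = (EtCech.cechComplex Uf S.X₂.obj).d 0 (0 + 1) c₀ :=
    comp_ext Uf _ fun b => by rw [comp_chmap, comp_mk, hz]
  have hinj : ∀ m, Function.Injective (chmap Uf S.f m) := fun m x y h => comp_ext Uf _ fun a =>
    injective_app hS _ ((comp_chmap Uf S.f a x).symm.trans
      ((congrArg (comp Uf _ a) h).trans (comp_chmap Uf S.f a y)))
  obtain ⟨y, hy⟩ := h₁ U (ULift.{u + 1} κ) Uf hc hq hU 0 zc (hinj _ (by
    rw [chmap_d, hfz, map_zero]
    exact ConcreteCategory.congr_hom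
      ((EtCech.cechComplex Uf S.X₂.obj).d_comp_d 0 (0 + 1) (0 + 1 + 1)) c₀))
  let c' : (EtCech.cechComplex Uf S.X₂.obj).X 0 := c₀ - chmap Uf S.f 0 y
  have hc' : (EtCech.cechComplex Uf S.X₂.obj).d 0 (0 + 1) c' = 0 := by
    rw [map_sub, sub_eq_zero, ← chmap_d, hy, hfz]
  let σ : ∀ k : ULift.{u + 1} κ, (Uf k).left ⟶ obj Uf (fun _ : Fin 1 => k) := fun k =>
    (Pi.lift fun _ => 𝟙 (Uf k) : Uf k ⟶ ∏ᶜ (Uf ∘ fun _ : Fin 1 => k)).left
  have hσ : ∀ k, σ k ≫ π Uf (fun _ : Fin 1 => k) 0 = 𝟙 _ := fun k => by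
    show (Pi.lift fun _ => 𝟙 (Uf k) : Uf k ⟶ ∏ᶜ (Uf ∘ fun _ : Fin 1 => k)).left ≫
      (Pi.π (Uf ∘ fun _ : Fin 1 => k) 0).left = _
    rw [← Over.comp_left, Pi.lift_π]
    rfl
  let t' : ∀ k : κ, EtCoh.sect S.X₂ (V k) := fun k =>
    S.X₂.obj.map (σ ⟨k⟩).op (comp Uf S.X₂.obj (fun _ : Fin 1 => ⟨k⟩) c')
  have key : ∀ {Z : X.Etale} (a : Fin 1 → ULift.{u + 1} κ) (k : κ) (e : a 0 = ⟨k⟩)
      (p : Z ⟶ obj Uf a) (q : Z ⟶ V k),
      p ≫ π Uf a 0 ≫ eqToHom (congrArg (fun i => (Uf i).left) e) = q →
      S.X₂.obj.map p.op (comp Uf S.X₂.obj a c') = S.X₂.obj.map q.op (t' k) := by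
    intro Z a k e p q hpq
    obtain rfl : a = fun _ => ⟨k⟩ := funext fun i => by
      rw [← e]; exact congrArg a (Subsingleton.elim (α := Fin 1) i 0)
    rw [eqToHom_refl, Category.comp_id] at hpq
    obtain rfl : p = q ≫ σ ⟨k⟩ := hom_ext Uf fun j => by
      obtain rfl : j = 0 := Subsingleton.elim (α := Fin 1) _ _
      rw [Category.assoc, hσ]
      exact hpq.trans (Category.comp_id _).symm
    rw [op_comp, Functor.map_comp, ConcreteCategory.comp_apply]
    rfl
  obtain ⟨T, hT, -⟩ := exists_unique_glue S.X₂ g hsurj t' fun k l => by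
    let b : Fin 2 → ULift.{u + 1} κ := ![⟨k⟩, ⟨l⟩]
    let W : Over U := Over.mk (overlapFst (g k) (g l) ≫ g k)
    let q : ∀ j : Fin 2, W ⟶ Uf (b j) :=
      Fin.cases (Over.homMk (overlapFst (g k) (g l)))
        (Fin.cases (Over.homMk (overlapSnd (g k) (g l)) (overlap_w (g k) (g l)).symm) fun i => Fin.elim0 i)
    let ω : overlap (g k) (g l) ⟶ obj Uf b := (Pi.lift q : W ⟶ ∏ᶜ (Uf ∘ b)).left
    have hω : ∀ j, ω ≫ π Uf b j = (q j).left := fun j => by
      show (Pi.lift q : W ⟶ ∏ᶜ (Uf ∘ b)).left ≫ (Pi.π (Uf ∘ b) j).left = _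
      rw [← Over.comp_left, Pi.lift_π]
    have h0 := key (b ∘ (1 : Fin 2).succAbove) k rfl (ω ≫ face Uf b 1) (overlapFst (g k) (g l)) (by
      rw [eqToHom_refl, Category.comp_id, Category.assoc, face_π, hω]
      rfl)
    have h1 := key (b ∘ (0 : Fin 2).succAbove) l rfl (ω ≫ face Uf b 0) (overlapSnd (g k) (g l)) (by
      rw [eqToHom_refl, Category.comp_id, Category.assoc, face_π, hω]
      rfl)
    rw [← h0, ← h1]
    simp only [op_comp, Functor.map_comp, ConcreteCategory.comp_apply]
    have h2 := congrArg (comp Uf S.X₂.obj b) hc'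
    rw [comp_d_apply, Fin.sum_univ_two, map_zero] at h2
    simp only [Fin.val_zero, pow_zero, one_smul, Fin.val_one, pow_one, neg_smul,
      add_neg_eq_zero] at h2
    rw [h2]
  refine ⟨T, ext_of_cover S.X₃ g hsurj _ _ fun k => ?_⟩
  rw [← NatTrans.naturality_apply, hT k]
  refine (NatTrans.naturality_apply S.g.hom (σ ⟨k⟩).op
    (comp Uf S.X₂.obj (fun _ : Fin 1 => ⟨k⟩) c')).trans ?_
  have hg' : ∀ a : Fin 1 → ULift.{u + 1} κ, S.g.hom.app (op (obj Uf a)) (comp Uf S.X₂.obj a c') =
      S.X₃.obj.map (π Uf a 0 ≫ g (a 0).down).op s := fun a => by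
    rw [map_sub, comp_chmap, map_sub, comp_mk]
    have h0 : S.g.hom.app (op (obj Uf a)) (S.f.hom.app (op (obj Uf a)) (comp Uf S.X₁.obj a y)) = 0 := by
      show (S.f ≫ S.g).hom.app _ _ = _
      rw [S.zero]
      rfl
    rw [h0, sub_zero, NatTrans.naturality_apply]
    exact (congrArg (S.X₃.obj.map (π Uf a 0).op) (ht _)).trans (map_map S.X₃.obj _ _ _)
  rw [hg']
  refine (map_map S.X₃.obj _ _ _).trans ?_
  rw [← Category.assoc, hσ, Category.id_comp]
  rfl

include hS in
/-- Quotients of compactly acyclic sheaves are compactly acyclic. -/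
theorem IsCompactAcyclic.quotient (h₁ : IsCompactAcyclic S.X₁) (h₂ : IsCompactAcyclic S.X₂) :
    IsCompactAcyclic S.X₃ := by
  intro U _ _ ι _ Uf hc hq hU p x hx
  have hs : ∀ a : Fin (p + 1 + 1) → ι, ∃ t, S.g.hom.app (op (obj Uf a)) t = comp Uf S.X₃.obj a x :=
    fun a => by
      obtain ⟨_, _⟩ := compact_qs_obj Uf hc hq a
      exact surjective_sections hS h₁ (obj Uf a) _
  choose t ht using hs
  let b : (EtCech.cechComplex Uf S.X₂.obj).X (p + 1) := mk Uf _ t
  have hb : chmap Uf S.g (p + 1) b = x := comp_ext Uf _ fun a => by rw [comp_chmap, comp_mk, ht]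
  have hz : ∀ a, ∃ z, S.f.hom.app (op (obj Uf a)) z =
      comp Uf S.X₂.obj a ((EtCech.cechComplex Uf S.X₂.obj).d (p + 1) (p + 1 + 1) b) := fun a => by
    refine exact_app hS _ _ ?_
    rw [← comp_chmap, chmap_d, hb, hx, map_zero]
  choose z hz using hz
  let a₁ : (EtCech.cechComplex Uf S.X₁.obj).X (p + 1 + 1) := mk Uf _ z
  have ha₁ : chmap Uf S.f _ a₁ = (EtCech.cechComplex Uf S.X₂.obj).d (p + 1) (p + 1 + 1) b :=
    comp_ext Uf _ fun a => by rw [comp_chmap, comp_mk, hz]
  have hinj : ∀ m, Function.Injective (chmap Uf S.f m) := fun m x y h => comp_ext Uf _ fun a =>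
    injective_app hS _ ((comp_chmap Uf S.f a x).symm.trans
      ((congrArg (comp Uf _ a) h).trans (comp_chmap Uf S.f a y)))
  obtain ⟨a₀, ha₀⟩ := h₁ U ι Uf hc hq hU (p + 1) a₁ (hinj _ (by
    rw [chmap_d, ha₁, map_zero]
    exact ConcreteCategory.congr_hom
      ((EtCech.cechComplex Uf S.X₂.obj).d_comp_d (p + 1) (p + 1 + 1) (p + 1 + 1 + 1)) b))
  obtain ⟨e, he⟩ := h₂ U ι Uf hc hq hU p (b - chmap Uf S.f (p + 1) a₀) (by
    rw [map_sub, sub_eq_zero, ← chmap_d, ha₀, ha₁])
  refine ⟨chmap Uf S.g p e, ?_⟩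
  rw [← chmap_d, he, map_sub, hb, ← chmap_comp, S.zero]
  have h0 : chmap Uf (0 : S.X₁ ⟶ S.X₃) (p + 1) a₀ = 0 := comp_ext Uf _ fun a => by
    rw [comp_chmap, map_zero]
    rfl
  rw [h0, sub_zero]

end Quotient

/-- Compactly acyclic sheaves have no higher cohomology. -/
theorem IsCompactAcyclic.subsingleton_H [CompactSpace X] [QuasiSeparatedSpace X] :
    ∀ (q : ℕ) {F : EtCoh.Ab X}, IsCompactAcyclic F → Subsingleton (EtCoh.H X F (q + 1)) := by
  haveI : CompactSpace (EtCoh.top X).left := inferInstanceAs (CompactSpace X)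
  haveI : QuasiSeparatedSpace (EtCoh.top X).left := inferInstanceAs (QuasiSeparatedSpace X)
  intro q
  induction q with
  | zero =>
    intro F hF
    let S := SiteCoh.DimShift.inj F
    have hS : S.ShortExact := SiteCoh.DimShift.inj_shortExact F
    refine subsingleton_of_forall_eq 0 fun x => ?_
    obtain ⟨x₃, rfl⟩ := Ext.covariant_sequence_exact₁ _ hS x
      (Ext.eq_zero_of_injective _) (rfl : 0 + 1 = 0 + 1)
    obtain ⟨s, hs⟩ := surjective_sections hS hF (EtCoh.top X) (Sheaf.H.equiv₀ S.X₃ (EtCore.topIsTerminal X) x₃)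
    have hx : x₃ = Sheaf.H.map S.g 0 ((Sheaf.H.equiv₀ S.X₂ (EtCore.topIsTerminal X)).symm s) :=
      (Sheaf.H.equiv₀ S.X₃ (EtCore.topIsTerminal X)).injective (by
        rw [← Sheaf.H.equiv₀_naturality, AddEquiv.apply_symm_apply, hs])
    rw [hx, Sheaf.H.map_apply, Ext.comp_assoc_of_second_deg_zero, ShortComplex.ShortExact.comp_extClass,
      Ext.comp_zero]
  | succ q ih =>
    intro F hF
    let S := SiteCoh.DimShift.inj F
    have hS : S.ShortExact := SiteCoh.DimShift.inj_shortExact F
    refine subsingleton_of_forall_eq 0 fun x => ?_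
    obtain ⟨x₃, rfl⟩ := Ext.covariant_sequence_exact₁ _ hS x
      (Ext.eq_zero_of_injective _) (rfl : q + 1 + 1 = q + 1 + 1)
    have := ih (IsCompactAcyclic.quotient hS hF (isCompactAcyclic_of_injective S.X₂))
    rw [Subsingleton.elim x₃ 0, Ext.zero_comp]

section Embedding

open MorphismProperty IsGrothendieckAbelian ZeroObject

/-- The functorial factorization of morphisms to zero. -/
def embData (X : Scheme.{u}) :
    FunctorialFactorizationData (monomorphisms (EtCoh.Ab X)) (monomorphisms (EtCoh.Ab X)).rlp :=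
  functorialFactorizationData _ _

/-- A sheaf as a morphism to zero. -/
def toZeroArrow (X : Scheme.{u}) : EtCoh.Ab X ⥤ Arrow (EtCoh.Ab X) where
  obj F := Arrow.mk (0 : F ⟶ 0)
  map f := Arrow.homMk f (𝟙 _) (by simp)

/-- A functorial injective envelope. -/
def emb (X : Scheme.{u}) : EtCoh.Ab X ⥤ EtCoh.Ab X := toZeroArrow X ⋙ (embData X).Z

/-- The inclusion into the envelope. -/
def embι (X : Scheme.{u}) : 𝟭 (EtCoh.Ab X) ⟶ emb X :=
  { app := fun F => (embData X).i.app ((toZeroArrow X).obj F)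
    naturality := fun F G f => (embData X).i.naturality ((toZeroArrow X).map f) }

instance mono_embι (F : EtCoh.Ab X) : Mono ((embι X).app F) :=
  (embData X).hi ((toZeroArrow X).obj F)

instance injective_emb (F : EtCoh.Ab X) : Injective ((emb X).obj F) := by
  have h := (embData X).hp ((toZeroArrow X).obj F)
  rw [injective_iff_rlp_monomorphisms_zero]
  have e : (embData X).p.app ((toZeroArrow X).obj F) =
      (0 : (emb X).obj F ⟶ (0 : EtCoh.Ab X)) := (isZero_zero _).eq_of_tgt _ _
  rwa [e] at h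

end Embedding

section Coker

variable {A : Type*} [Category A] [Abelian A] {J : Type*} [Category J] {D E : J ⥤ A} (η : D ⟶ E)

/-- The cokernels of a morphism of diagrams. -/
def cokFunctor : J ⥤ A where
  obj i := cokernel (η.app i)
  map {i j} a := cokernel.map (η.app i) (η.app j) (D.map a) (E.map a) (η.naturality a).symm
  map_id i := coequalizer.hom_ext (by simp)
  map_comp a b := coequalizer.hom_ext (by simp)

lemma π_cokFunctor_map {i j : J} (a : i ⟶ j) :
    cokernel.π (η.app i) ≫ (cokFunctor η).map a = E.map a ≫ cokernel.π (η.app j) :=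
  cokernel.π_desc _ _ _

variable {c : Cocone D} {d : Cocone E} (f : c.pt ⟶ d.pt) (hf : ∀ i, c.ι.app i ≫ f = η.app i ≫ d.ι.app i)

/-- The cocone on the cokernels. -/
def cokCocone : Cocone (cokFunctor η) where
  pt := cokernel f
  ι :=
    { app := fun i => cokernel.map (η.app i) f (c.ι.app i) (d.ι.app i) (hf i).symm
      naturality := fun i j a => coequalizer.hom_ext (by
        refine Eq.trans ?_ (congrArg (cokernel.π _ ≫ ·) (Category.comp_id _).symm)
        simp [cokFunctor]) }

lemma π_cokCocone (i : J) :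
    cokernel.π (η.app i) ≫ (cokCocone η f hf).ι.app i = d.ι.app i ≫ cokernel.π f :=
  cokernel.π_desc _ _ _

/-- Cokernels commute with colimits. -/
def cokIsColimit (hc : IsColimit c) (hd : IsColimit d) : IsColimit (cokCocone η f hf) where
  desc s := cokernel.desc f
    (hd.desc
      { pt := s.pt
        ι :=
          { app := fun i => cokernel.π (η.app i) ≫ s.ι.app i
            naturality := fun i j a => by
              refine Eq.trans ?_ (Category.comp_id _).symm
              show E.map a ≫ cokernel.π (η.app j) ≫ s.ι.app j = cokernel.π (η.app i) ≫ s.ι.app i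
              rw [← s.w a, ← Category.assoc, ← π_cokFunctor_map, Category.assoc] } })
    (hc.hom_ext fun i => by
      rw [← Category.assoc, hf, Category.assoc, hd.fac, comp_zero]
      exact cokernel.condition_assoc _ _ |>.trans zero_comp)
  fac s i := coequalizer.hom_ext (by simp [cokCocone])
  uniq s m hm := coequalizer.hom_ext (hd.hom_ext fun i => by
    simp only [cokernel.π_desc, IsColimit.fac, ← hm, cokCocone, cokernel.π_desc_assoc, Category.assoc])

end Coker

variable {J : Type u} [SmallCategory J] [IsFiltered J] [CompactSpace X] [QuasiSeparatedSpace X]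

set_option maxHeartbeats 1000000 in
/-- Cohomology in degree `n` of a filtered colimit comes from the stages. -/
theorem coh_colimit (n : ℕ) : ∀ {D : J ⥤ EtCoh.Ab X} {c : Cocone D}, IsColimit c →
    (∀ x : EtCoh.H X c.pt n, ∃ (i : J) (y : EtCoh.H X (D.obj i) n), Sheaf.H.map (c.ι.app i) n y = x) ∧
    (∀ (i : J) (y : EtCoh.H X (D.obj i) n), Sheaf.H.map (c.ι.app i) n y = 0 →
      ∃ (j : J) (φ : i ⟶ j), Sheaf.H.map (D.map φ) n y = 0) := by
  haveI : CompactSpace (EtCoh.top X).left := inferInstanceAs (CompactSpace X)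
  haveI : QuasiSeparatedSpace (EtCoh.top X).left := inferInstanceAs (QuasiSeparatedSpace X)
  induction n with
  | zero =>
    intro D c hD
    refine ⟨fun x => ?_, fun i y hy => ?_⟩
    · obtain ⟨i, t, ht⟩ := exists_rep D c hD (EtCoh.top X) (Sheaf.H.equiv₀ c.pt (EtCore.topIsTerminal X) x)
      refine ⟨i, (Sheaf.H.equiv₀ _ (EtCore.topIsTerminal X)).symm t, ?_⟩
      refine (Sheaf.H.equiv₀ c.pt (EtCore.topIsTerminal X)).injective ?_
      rw [← ht]
      refine (Sheaf.H.equiv₀_naturality (EtCore.topIsTerminal X) (c.ι.app i) _).symm.trans ?_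
      rw [AddEquiv.apply_symm_apply]
    · obtain ⟨j, φ, hφ⟩ := exists_map_eq_zero D c hD (EtCoh.top X)
        (Sheaf.H.equiv₀ _ (EtCore.topIsTerminal X) y) (by
          rw [Sheaf.H.equiv₀_naturality, hy, map_zero])
      refine ⟨j, φ, (Sheaf.H.equiv₀ _ (EtCore.topIsTerminal X)).injective ?_⟩
      rw [map_zero, ← Sheaf.H.equiv₀_naturality, hφ]
  | succ n ih =>
    intro D c hD
    let cI := colimit.cocone (D ⋙ emb X)
    let hI : IsColimit cI := colimit.isColimit _
    let f : c.pt ⟶ cI.pt := hD.desc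
      { pt := cI.pt
        ι := { app := fun i => (embι X).app (D.obj i) ≫ cI.ι.app i
               naturality := fun i j a => by
                 refine Eq.trans ?_ (Category.comp_id _).symm
                 show D.map a ≫ (embι X).app (D.obj j) ≫ cI.ι.app j =
                   (embι X).app (D.obj i) ≫ cI.ι.app i
                 rw [← cI.w a, ← Category.assoc, ← Category.assoc]
                 exact congrArg (· ≫ cI.ι.app j) ((embι X).naturality (D.map a)) } }
    have hf : ∀ i, c.ι.app i ≫ f = (embι X).app (D.obj i) ≫ cI.ι.app i := fun i => hD.fac _ i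
    haveI hmono : Mono f := by
      refine (sheafToPresheaf X.smallEtaleTopology AddCommGrpCat.{u + 1}).mono_of_mono_map
        (@NatTrans.mono_of_mono_app _ _ _ _ _ _ _ fun W => (AddCommGrpCat.mono_iff_injective _).2 ?_)
      refine (injective_iff_map_eq_zero (f.hom.app W).hom).2 fun x hx => ?_
      haveI : Etale W.unop.hom := W.unop.prop
      let C := W.unop.left.affineCover
      let V : C.I₀ → X.Etale := fun k => Scheme.Etale.mk (C.f k ≫ W.unop.hom)
      let g : ∀ k, V k ⟶ W.unop := fun k => MorphismProperty.Over.homMk (C.f k) rfl trivial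
      refine ext_of_cover c.pt g (fun w => ?_) x 0 fun k => ?_
      · obtain ⟨k, v, hv⟩ := C.exists_eq w
        exact ⟨k, v, hv⟩
      · haveI : IsAffine (V k).left := inferInstanceAs (IsAffine (Spec _))
        rw [map_zero]
        obtain ⟨i, t, ht⟩ := exists_rep D c hD (V k) (c.pt.obj.map (g k).op x)
        have h0 : (cI.ι.app i).hom.app (op (V k)) (((embι X).app (D.obj i)).hom.app (op (V k)) t) = 0 := by
          show ((embι X).app (D.obj i) ≫ cI.ι.app i).hom.app _ t = 0
          rw [← hf]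
          show f.hom.app _ ((c.ι.app i).hom.app _ t) = 0
          rw [ht, NatTrans.naturality_apply, hx, map_zero]
        obtain ⟨j, φ, hj⟩ := exists_map_eq_zero (D ⋙ emb X) cI hI (V k)
          (((embι X).app (D.obj i)).hom.app (op (V k)) t) h0
        have h1 : ((embι X).app (D.obj j)).hom.app (op (V k)) ((D.map φ).hom.app (op (V k)) t) = 0 := by
          show (D.map φ ≫ (embι X).app (D.obj j)).hom.app _ t = 0
          rw [show D.map φ ≫ (embι X).app (D.obj j) = (embι X).app (D.obj i) ≫ (emb X).map (D.map φ) from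
            (embι X).naturality (D.map φ)]
          exact hj
        haveI : Mono ((embι X).app (D.obj j)).hom :=
          (sheafToPresheaf X.smallEtaleTopology AddCommGrpCat.{u + 1}).map_mono ((embι X).app (D.obj j))
        have h2 : (D.map φ).hom.app (op (V k)) t = 0 :=
          (AddCommGrpCat.mono_iff_injective _).1
            (((evaluation _ AddCommGrpCat.{u + 1}).obj (op (V k))).map_mono ((embι X).app (D.obj j)).hom)
            (h1.trans (map_zero _).symm)
        rw [← ht, ← c.w φ]
        show (c.ι.app j).hom.app _ ((D.map φ).hom.app _ t) = 0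
        rw [h2, map_zero]
    let S : J → ShortComplex (EtCoh.Ab X) := fun i =>
      ShortComplex.mk ((embι X).app (D.obj i)) (cokernel.π _) (cokernel.condition _)
    have hS : ∀ i, (S i).ShortExact := fun i =>
      { exact := ShortComplex.exact_of_g_is_cokernel _ (cokernelIsCokernel _) }
    let Q : J ⥤ EtCoh.Ab X := cokFunctor (Functor.whiskerLeft D (embι X))
    let S' : ShortComplex (EtCoh.Ab X) := ShortComplex.mk f (cokernel.π f) (cokernel.condition f)
    have hS' : S'.ShortExact :=
      { exact := ShortComplex.exact_of_g_is_cokernel _ (cokernelIsCokernel _) }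
    let cQ : Cocone Q := cokCocone (Functor.whiskerLeft D (embι X)) f hf
    have hQ : IsColimit cQ := cokIsColimit (Functor.whiskerLeft D (embι X)) f hf hD hI
    obtain ⟨ihQs, ihQz⟩ := ih hQ
    obtain ⟨ihIs, -⟩ := ih hI
    have hI0 : Subsingleton (EtCoh.H X cI.pt (n + 1)) :=
      IsCompactAcyclic.subsingleton_H n (isCompactAcyclic_colimit hI fun i =>
        isCompactAcyclic_of_injective ((emb X).obj (D.obj i)))
    let Φ : ∀ i, S i ⟶ S' := fun i =>
      { τ₁ := c.ι.app i
        τ₂ := cI.ι.app i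
        τ₃ := cQ.ι.app i
        comm₁₂ := hf i
        comm₂₃ := (π_cokCocone (Functor.whiskerLeft D (embι X)) f hf i).symm }
    let Ψ : ∀ {i j : J}, (i ⟶ j) → (S i ⟶ S j) := fun {i j} a =>
      { τ₁ := D.map a
        τ₂ := (emb X).map (D.map a)
        τ₃ := Q.map a
        comm₁₂ := (embι X).naturality (D.map a)
        comm₂₃ := (π_cokFunctor_map (Functor.whiskerLeft D (embι X)) a).symm }
    have δnat : ∀ {A B : ShortComplex (EtCoh.Ab X)} (hA : A.ShortExact) (hB : B.ShortExact) (θ : A ⟶ B)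
        (q : EtCoh.H X A.X₃ n), Sheaf.H.map θ.τ₁ (n + 1) (q.comp hA.extClass rfl) =
          (Sheaf.H.map θ.τ₃ n q).comp hB.extClass rfl := by
      intro A B hA hB θ q
      rw [Sheaf.H.map_apply, Sheaf.H.map_apply, Ext.comp_assoc_of_second_deg_zero,
        Ext.comp_assoc_of_third_deg_zero, hA.extClass_naturality hB θ]
    refine ⟨fun x => ?_, fun i y hy => ?_⟩
    · obtain ⟨q, hq⟩ := Ext.covariant_sequence_exact₁ _ hS' x (Subsingleton.elim _ _) (rfl : n + 1 = n + 1)
      obtain ⟨i, qi, rfl⟩ := ihQs q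
      exact ⟨i, qi.comp (hS i).extClass rfl, (δnat (hS i) hS' (Φ i) qi).trans hq⟩
    · obtain ⟨q, rfl⟩ := Ext.covariant_sequence_exact₁ _ (hS i) y
        (Ext.eq_zero_of_injective _) (rfl : n + 1 = n + 1)
      obtain ⟨r, hr⟩ := Ext.covariant_sequence_exact₃ _ hS' (Sheaf.H.map (cQ.ι.app i) n q)
        (rfl : n + 1 = n + 1) ((δnat (hS i) hS' (Φ i) q).symm.trans hy)
      obtain ⟨k, rk, rfl⟩ := ihIs r
      let α := IsFiltered.leftToMax i k
      let β := IsFiltered.rightToMax i k
      have hmid : Sheaf.H.map (cQ.ι.app _) n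
          (Sheaf.H.map (Q.map α) n q - Sheaf.H.map (Q.map β) n (Sheaf.H.map (S k).g n rk)) = 0 := by
        rw [map_sub, sub_eq_zero]
        have e1 : ∀ {A B C : EtCoh.Ab X} (a : A ⟶ B) (b : B ⟶ C) (x : EtCoh.H X A n),
            Sheaf.H.map b n (Sheaf.H.map a n x) = Sheaf.H.map (a ≫ b) n x := fun a b x => by
          rw [Sheaf.H.map_apply, Sheaf.H.map_apply, Sheaf.H.map_apply,
            Ext.comp_assoc_of_second_deg_zero, Ext.mk₀_comp_mk₀]
        refine (e1 (Q.map α) (cQ.ι.app _) q).trans ?_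
        rw [cQ.w α]
        refine hr.symm.trans ?_
        refine ((e1 (cI.ι.app k) S'.g rk).trans (congrArg (fun a => Sheaf.H.map a n rk)
          (((Φ k).comm₂₃).trans (congrArg ((S k).g ≫ ·) (cQ.w β).symm)))).trans ?_
        exact (e1 (S k).g (Q.map β ≫ cQ.ι.app _) rk).symm.trans (e1 (Q.map β) (cQ.ι.app _) _).symm
      obtain ⟨j, φ, hj⟩ := ihQz _ _ hmid
      refine ⟨j, α ≫ φ, ?_⟩
      have e1 : ∀ {A B C : EtCoh.Ab X} (a : A ⟶ B) (b : B ⟶ C) (x : EtCoh.H X A n),
          Sheaf.H.map b n (Sheaf.H.map a n x) = Sheaf.H.map (a ≫ b) n x := fun a b x => by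
        rw [Sheaf.H.map_apply, Sheaf.H.map_apply, Sheaf.H.map_apply,
          Ext.comp_assoc_of_second_deg_zero, Ext.mk₀_comp_mk₀]
      have hj' : Sheaf.H.map (Q.map φ) n (Sheaf.H.map (Q.map α) n q) =
          Sheaf.H.map (Q.map φ) n (Sheaf.H.map (Q.map β) n (Sheaf.H.map (S k).g n rk)) :=
        sub_eq_zero.1 ((map_sub _ _ _).symm.trans hj)
      refine (δnat (hS i) (hS j) (Ψ (α ≫ φ)) q).trans ?_
      have h3 : Sheaf.H.map (Ψ (α ≫ φ)).τ₃ n q =
          Sheaf.H.map (S j).g n (Sheaf.H.map ((emb X).map (D.map (β ≫ φ))) n rk) :=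
        (congrArg (fun a => Sheaf.H.map a n q) (Q.map_comp α φ)).trans <|
          ((e1 (Q.map α) (Q.map φ) q).symm.trans hj').trans <|
            (e1 (Q.map β) (Q.map φ) _).trans <| (e1 (S k).g (Q.map β ≫ Q.map φ) rk).trans <|
              (congrArg (fun a => Sheaf.H.map a n rk)
                ((congrArg ((S k).g ≫ ·) (Q.map_comp β φ).symm).trans (Ψ (β ≫ φ)).comm₂₃.symm)).trans
                (e1 ((emb X).map (D.map (β ≫ φ))) (S j).g rk).symm
      rw [h3, Sheaf.H.map_apply (S j).g, Ext.comp_assoc_of_second_deg_zero,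
        ShortComplex.ShortExact.comp_extClass, Ext.comp_zero]

end Groth.Agent.EtColim.CohColim
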