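import Groth.Agent.EtColim.CohColim
import Groth.Agent.GrothSS.Acyclic
import Groth.Agent.RDerLES
import Groth.Prelude.Def_EtAcyc
import Mathlib.Algebra.Category.Grp.Adjunctions
import Mathlib.Algebra.FreeAbelianGroup.Finsupp

/-!
# Higher direct images of `L`-torsion sheaves along qcqs morphisms are `L`-torsion

An `L`-torsion sheaf embeds into the kernel `T` of `I ⟶ J`, `I` injective and `J` the colimit of `I`
along multiplication by the `L`-numbers; `T` is `L`-torsion and acyclic for direct images along qcqs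
morphisms.
-/

set_option autoImplicit false
set_option backward.isDefEq.respectTransparency false

universe u

open CategoryTheory CategoryTheory.Limits AlgebraicGeometry Opposite

noncomputable section

namespace Groth.Agent.EtColim.TorsionPush

open Groth.Agent.EtColim.Sections Groth.Agent.EtColim.CohColim

variable {X Y : Scheme.{u}}

/-- the free abelian presheaf on an object -/
def freeP (W : X.Etale) : X.Etaleᵒᵖ ⥤ AddCommGrpCat.{u + 1} :=
  (yoneda.obj W ⋙ uliftFunctor.{u + 1, u}) ⋙ AddCommGrpCat.free.{u + 1}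

theorem exists_nsmul_eq (P : X.Etaleᵒᵖ ⥤ AddCommGrpCat.{u + 1}) [Injective P] (W : X.Etale)
    (s : P.obj (op W)) {m : ℕ} (hm : 0 < m) : ∃ t : P.obj (op W), m • t = s := by
  let φ : freeP W ⟶ P :=
    { app := fun T => AddCommGrpCat.ofHom
        (FreeAbelianGroup.lift fun a : ULift.{u + 1} (T.unop ⟶ W) => P.map a.down.op s)
      naturality := fun T T' g => by
        apply AddCommGrpCat.hom_ext
        apply FreeAbelianGroup.lift_ext
        intro a
        change FreeAbelianGroup.lift _ (FreeAbelianGroup.map _ (FreeAbelianGroup.of a)) =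
          P.map g (FreeAbelianGroup.lift _ (FreeAbelianGroup.of a))
        rw [FreeAbelianGroup.map_of_apply, FreeAbelianGroup.lift_apply_of,
          FreeAbelianGroup.lift_apply_of, ← ConcreteCategory.comp_apply, ← P.map_comp]
        rfl }
  let M : freeP W ⟶ freeP W :=
    { app := fun T => AddCommGrpCat.ofHom (nsmulAddMonoidHom m)
      naturality := fun T T' g => by
        apply AddCommGrpCat.hom_ext
        ext x
        exact (map_nsmul ((freeP W).map g).hom m x).symm }
  have : ∀ T, Mono (M.app T) := fun T => (AddCommGrpCat.mono_iff_injective _).2 fun a b h => by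
    apply (FreeAbelianGroup.equivFinsupp _).injective
    have h' := congrArg (FreeAbelianGroup.equivFinsupp _) (show m • a = m • b from h)
    rw [map_nsmul, map_nsmul] at h'
    exact (nsmul_right_inj hm.ne').1 h'
  have : Mono M := NatTrans.mono_of_mono_app M
  let ψ := Injective.factorThru φ M
  let g₀ : (freeP W).obj (op W) := FreeAbelianGroup.of ⟨𝟙 W⟩
  refine ⟨ψ.app (op W) g₀, ?_⟩
  have h := ConcreteCategory.congr_hom (congrArg (fun k => k.app (op W)) (Injective.comp_factorThru φ M)) g₀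
  have h' : ψ.app (op W) (m • g₀) = φ.app (op W) g₀ := h
  rw [← map_nsmul, h']
  change FreeAbelianGroup.lift _ (FreeAbelianGroup.of _) = s
  rw [FreeAbelianGroup.lift_apply_of]
  simp

/-- The `L`-numbers, ordered by divisibility. -/
structure Idx (L : Set ℕ) : Type u where
  m : ℕ
  prop : EtAcyc.PrimesIn L m

variable {L : Set ℕ}

instance : Preorder (Idx.{u} L) where
  le a b := a.m ∣ b.m
  le_refl a := dvd_rfl
  le_trans a b c := dvd_trans

theorem primesIn_one : EtAcyc.PrimesIn L 1 :=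
  ⟨one_pos, fun p hp h => absurd (Nat.dvd_one.1 h) hp.ne_one⟩

theorem primesIn_mul {a b : ℕ} (ha : EtAcyc.PrimesIn L a) (hb : EtAcyc.PrimesIn L b) :
    EtAcyc.PrimesIn L (a * b) :=
  ⟨Nat.mul_pos ha.1 hb.1, fun p hp h => ((Nat.Prime.dvd_mul hp).1 h).elim (ha.2 p hp) (hb.2 p hp)⟩

theorem primesIn_prod {ι : Type*} (s : Finset ι) (m : ι → ℕ) (h : ∀ i, EtAcyc.PrimesIn L (m i)) :
    EtAcyc.PrimesIn L (∏ i ∈ s, m i) :=
  Finset.prod_induction m _ (fun _ _ => primesIn_mul) primesIn_one fun i _ => h i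

instance : Nonempty (Idx.{u} L) := ⟨⟨1, primesIn_one⟩⟩

instance : IsDirectedOrder (Idx.{u} L) :=
  ⟨fun a b => ⟨⟨a.m * b.m, primesIn_mul a.prop b.prop⟩, dvd_mul_right _ _, dvd_mul_left _ _⟩⟩

variable (L)

/-- `I` along multiplication by the `L`-numbers. -/
def mulDiag (I : EtCoh.Ab X) : Idx.{u} L ⥤ EtCoh.Ab X where
  obj _ := I
  map {a b} _ := (b.m / a.m) • 𝟙 I
  map_id a := by rw [Nat.div_self a.prop.1, one_nsmul]
  map_comp {a b c} h k := by
    have ha := a.prop.1
    have hh : a.m ∣ b.m := leOfHom h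
    have hk : b.m ∣ c.m := leOfHom k
    rw [Preadditive.nsmul_comp, Preadditive.comp_nsmul, Category.comp_id, smul_smul,
      Nat.div_mul_div_comm hh hk, Nat.mul_comm b.m c.m, Nat.mul_div_mul_right _ _ b.prop.1]

theorem mulDiag_map_app (I : EtCoh.Ab X) {a b : Idx.{u} L} (h : a ⟶ b) (U : X.Etale)
    (t : EtCoh.sect I U) : ((mulDiag L I).map h).hom.app (op U) t = (b.m / a.m) • t := by
  change (((b.m / a.m) • 𝟙 I : I ⟶ I).hom.app (op U)) t = _
  induction (b.m / a.m) with
  | zero => simp
  | succ n ih =>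
    rw [succ_nsmul, succ_nsmul, Sheaf.Hom.add_app]
    change ((n • 𝟙 I : I ⟶ I).hom.app (op U)) t + t = n • t + t
    rw [ih]

variable (I : EtCoh.Ab X)

/-- The colimit `J`. -/
abbrev loc : EtCoh.Ab X := colimit (mulDiag L I)

/-- The map `I ⟶ J`. -/
def toLoc : I ⟶ loc L I := colimit.ι (mulDiag L I) ⟨1, primesIn_one⟩

theorem ι_nsmul (a : Idx.{u} L) (U : X.Etale) (t : EtCoh.sect I U) :
    (colimit.ι (mulDiag L I) a).hom.app (op U) (a.m • t) = (toLoc L I).hom.app (op U) t := by
  let h : (⟨1, primesIn_one⟩ : Idx.{u} L) ⟶ a := homOfLE (one_dvd _)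
  have := congrArg (fun k : I ⟶ loc L I => k.hom.app (op U) t) (colimit.w (mulDiag L I) h)
  change (colimit.ι (mulDiag L I) a).hom.app (op U) (((mulDiag L I).map h).hom.app (op U) t) = _ at this
  rw [mulDiag_map_app, Nat.div_one] at this
  exact this

theorem surjective_toLoc [Injective I] (U : X.Etale) [CompactSpace U.left]
    [QuasiSeparatedSpace U.left] : Function.Surjective ((toLoc L I).hom.app (op U)) := fun s => by
  have : Injective I.obj := Injective.injective_of_adjoint
    (sheafificationAdjunction X.smallEtaleTopology AddCommGrpCat.{u + 1}) I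
  obtain ⟨a, t, ht⟩ := exists_rep (mulDiag L I) (colimit.cocone _) (colimit.isColimit _) U s
  obtain ⟨t', rfl⟩ := exists_nsmul_eq I.obj U t a.prop.1
  exact ⟨t', (ι_nsmul L I a U t').symm.trans ht⟩

theorem isCompactAcyclic_loc [Injective I] : IsCompactAcyclic (loc L I) :=
  isCompactAcyclic_colimit (colimit.isColimit _) fun _ => isCompactAcyclic_of_injective I

theorem affine_nbhd (U : X.Etale) (x : U.left) : ∃ (V : X.Etale) (g : V ⟶ U),
    IsAffine V.left ∧ ∃ v : V.left, g.left.base v = x := by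
  obtain ⟨k, v, hv⟩ := U.left.affineCover.exists_eq x
  haveI : Etale U.hom := U.prop
  exact ⟨Scheme.Etale.mk (U.left.affineCover.f k ≫ U.hom),
    MorphismProperty.Over.homMk (U.left.affineCover.f k) rfl trivial,
    inferInstanceAs (IsAffine (Spec _)), v, hv⟩

theorem epi_of_affine {F G : EtCoh.Ab X} (φ : F ⟶ G)
    (h : ∀ U : X.Etale, IsAffine U.left → Function.Surjective (φ.hom.app (op U))) : Epi φ := by
  have : Presheaf.IsLocallySurjective X.smallEtaleTopology φ.hom := ⟨fun {U} s => ?_⟩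
  · exact (Sheaf.isLocallySurjective_iff_epi' AddCommGrpCat.{u + 1} φ).1 this
  · refine Groth.Agent.EtaleSite.mem_topology_of_forall_exists _ fun u => ?_
    obtain ⟨V, g, hV, v, hv⟩ := affine_nbhd U u
    exact ⟨V, g, v, h V hV _, hv⟩

/-- The kernel of `I ⟶ J`. -/
abbrev torsSeq : ShortComplex (EtCoh.Ab X) :=
  ShortComplex.mk (kernel.ι (toLoc L I)) (toLoc L I) (kernel.condition _)

theorem torsSeq_shortExact [Injective I] : (torsSeq L I).ShortExact where
  exact := ShortComplex.exact_of_f_is_kernel _ (kernelIsKernel _)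
  mono_f := inferInstanceAs (Mono (kernel.ι _))
  epi_g := epi_of_affine _ fun U _ => surjective_toLoc L I U

theorem isLTorsion_of_mono {F G : EtCoh.Ab X} (φ : F ⟶ G)
    (hφ : ∀ U : X.Etale, Function.Injective (φ.hom.app (op U))) (hG : EtAcyc.IsLTorsion L G) :
    EtAcyc.IsLTorsion L F := fun U s x => by
  obtain ⟨V, g, m, hv, hm, hz⟩ := hG U (φ.hom.app (op U) s) x
  refine ⟨V, g, m, hv, hm, hφ V ?_⟩
  rw [map_nsmul, map_zero, NatTrans.naturality_apply, hz]

theorem isLTorsion_kernel [Injective I] : EtAcyc.IsLTorsion L (kernel (toLoc L I)) := fun U s x => by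
  obtain ⟨V, g, hV, hv⟩ := affine_nbhd U x
  have h0 : (colimit.ι (mulDiag L I) ⟨1, primesIn_one⟩).hom.app (op V)
      ((kernel.ι (toLoc L I)).hom.app (op V) ((kernel (toLoc L I)).obj.map g.op s)) = 0 := by
    have := congrArg (fun k : kernel (toLoc L I) ⟶ loc L I =>
      k.hom.app (op V) ((kernel (toLoc L I)).obj.map g.op s)) (kernel.condition (toLoc L I))
    exact this
  obtain ⟨a, h, ha⟩ := exists_map_eq_zero (mulDiag L I) (colimit.cocone _) (colimit.isColimit _) V _ h0
  rw [mulDiag_map_app, Nat.div_one] at ha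
  refine ⟨V, g, a.m, hv, a.prop, injective_app (torsSeq_shortExact L I) V ?_⟩
  rw [map_nsmul, map_zero]
  exact ha

theorem toLoc_eq_zero [Injective I] {F : EtCoh.Ab X} (hF : EtAcyc.IsLTorsion L F) (φ : F ⟶ I) :
    φ ≫ toLoc L I = 0 := by
  refine Sheaf.hom_ext (NatTrans.ext (funext fun ⟨U⟩ => ?_))
  ext s
  choose V g m hv hm hz using hF U s
  change (toLoc L I).hom.app (op U) (φ.hom.app (op U) s) = 0
  choose v hv using hv
  refine ext_of_cover (loc L I) (ι := ULift.{u} U.left) (fun x => g x.down)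
    (fun x => ⟨⟨x⟩, v x, hv x⟩) _ _ fun x => ?_
  rw [map_zero, ← NatTrans.naturality_apply, ← NatTrans.naturality_apply]
  have := ι_nsmul L I ⟨m x.down, hm x.down⟩ (V x.down) (φ.hom.app (op (V x.down)) (F.obj.map (g x.down).op s))
  rw [← map_nsmul, hz, map_zero, map_zero] at this
  exact this.symm

theorem isLTorsion_of_epi {F G : EtCoh.Ab X} (φ : F ⟶ G) [Epi φ] (hF : EtAcyc.IsLTorsion L F) :
    EtAcyc.IsLTorsion L G := fun U s x => by
  have hloc : Presheaf.IsLocallySurjective X.smallEtaleTopology φ.hom :=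
    (Sheaf.isLocallySurjective_iff_epi' AddCommGrpCat.{u + 1} φ).2 inferInstance
  obtain ⟨V, g, v, hg, hv⟩ := Groth.Agent.EtaleSite.Covers.exists_of_mem (hloc.imageSieve_mem s) x
  obtain ⟨t, ht⟩ := hg
  obtain ⟨W, h, m, ⟨w, hw⟩, hm, hz⟩ := hF V t v
  refine ⟨W, h ≫ g, m, ⟨w, (congrArg g.left.base hw).trans hv⟩, hm, ?_⟩
  rw [← map_map G.obj, ← ht, ← NatTrans.naturality_apply φ.hom h.op, ← map_nsmul, hz, map_zero]

variable (f : X ⟶ Y) [QuasiCompact f] [QuasiSeparated f] [EtCoh.BCCont f]

omit [EtCoh.BCCont f] in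
theorem compact_qs_bc (V : Y.Etale) [CompactSpace V.left] [QuasiSeparatedSpace V.left] :
    CompactSpace ((EtCoh.bc f).obj V).left ∧ QuasiSeparatedSpace ((EtCoh.bc f).obj V).left := by
  have : QuasiCompact (pullback.fst V.hom f) :=
    MorphismProperty.pullback_fst (P := @QuasiCompact) V.hom f ‹_›
  have : QuasiSeparated (pullback.fst V.hom f) :=
    MorphismProperty.pullback_fst (P := @QuasiSeparated) V.hom f ‹_›
  exact ⟨@QuasiCompact.compactSpace_of_compactSpace _ _ (pullback.fst V.hom f) ‹_› ‹CompactSpace V.left›,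
    @quasiSeparatedSpace_of_quasiSeparated _ _ (pullback.fst V.hom f) ‹QuasiSeparatedSpace V.left› ‹_›⟩

theorem epi_push {F G : EtCoh.Ab X} (φ : F ⟶ G)
    (h : ∀ (U : X.Etale) [CompactSpace U.left] [QuasiSeparatedSpace U.left],
      Function.Surjective (φ.hom.app (op U))) : Epi ((EtCoh.push f).map φ) :=
  epi_of_affine _ fun V _ => by
    obtain ⟨_, _⟩ := compact_qs_bc f V
    exact h ((EtCoh.bc f).obj V)

theorem isLTorsion_push {F : EtCoh.Ab X} (hF : EtAcyc.IsLTorsion L F) :
    EtAcyc.IsLTorsion L ((EtCoh.push f).obj F) := fun V s x => by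
  classical
  obtain ⟨V', h, hV', hv⟩ := affine_nbhd V x
  obtain ⟨hc, _⟩ := compact_qs_bc f V'
  let W := (EtCoh.bc f).obj V'
  let s' : EtCoh.sect F W := ((EtCoh.push f).obj F).obj.map h.op s
  choose U g m hu hm hz using hF W s'
  choose u hu using hu
  have ho : ∀ w, IsOpen (Set.range (g w).left) := fun w => by
    haveI : Etale W.hom := W.prop
    haveI : Etale (U w).hom := (U w).prop
    have hw : (g w).left ≫ W.hom = (U w).hom := MorphismProperty.Over.w _
    haveI : Etale ((g w).left ≫ W.hom) := hw.symm ▸ (U w).prop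
    haveI : Etale (g w).left := Etale.of_comp _ W.hom
    exact (g w).left.isOpenMap.isOpen_range
  obtain ⟨t, ht⟩ := isCompact_univ.elim_finite_subcover (fun w => Set.range (g w).left) ho
    fun w _ => Set.mem_iUnion.2 ⟨w, u w, hu w⟩
  refine ⟨V', h, ∏ w ∈ t, m w, hv, primesIn_prod t m hm, ?_⟩
  change (∏ w ∈ t, m w) • s' = 0
  refine ext_of_cover F (ι := t) (fun w => g w.1) (fun w => ?_) _ _ fun w => ?_
  · obtain ⟨w', hw', v', hv'⟩ := Set.mem_iUnion₂.1 (ht (Set.mem_univ w))
    exact ⟨⟨w', hw'⟩, v', hv'⟩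
  · obtain ⟨k, hk⟩ := Finset.dvd_prod_of_mem m w.2
    rw [map_zero, map_nsmul, hk, mul_comm, mul_nsmul', hz, nsmul_zero]

theorem isZero_Rpush_of_isCompactAcyclic (q : ℕ) : ∀ {F : EtCoh.Ab X}, IsCompactAcyclic F →
    IsZero ((EtCoh.Rpush f (q + 1)).obj F) := by
  have : PreservesFiniteLimits (EtCoh.push f) :=
    ⟨fun K _ _ => ((EtCoh.pullPushAdj f).rightAdjoint_preservesLimits.preservesLimitsOfShape :
      PreservesLimitsOfShape K (EtCoh.push f))⟩
  let l := Groth.Agent.RDerLES.derivedLES (EtCoh.push f)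
  induction q with
  | zero =>
    intro F hF
    let S := SiteCoh.DimShift.inj F
    have hS : S.ShortExact := SiteCoh.DimShift.inj_shortExact F
    have he : Epi ((EtCoh.push f).map S.g) :=
      epi_push f S.g fun U _ _ => surjective_sections hS hF U
    have he0 : Epi ((EtCoh.Rpush f 0).map S.g) :=
      ((MorphismProperty.epimorphisms (EtCoh.Ab Y)).arrow_mk_iso_iff
        (Arrow.isoMk ((EtCoh.push f).rightDerivedZeroIsoSelf.app S.X₂)
          ((EtCoh.push f).rightDerivedZeroIsoSelf.app S.X₃)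
          ((EtCoh.push f).rightDerivedZeroIsoSelf.hom.naturality S.g).symm :
          Arrow.mk ((EtCoh.Rpush f 0).map S.g) ≅ Arrow.mk ((EtCoh.push f).map S.g))).2 he
    refine (l.exact₁ S hS 0 1 rfl).isZero_of_both_zeros ?_
      ((Functor.isZero_rightDerived_obj_injective_succ _ 0 S.X₂).eq_of_tgt _ _)
    exact (cancel_epi ((EtCoh.Rpush f 0).map S.g)).1 ((l.comp_δ S hS 0 1 rfl).trans comp_zero.symm)
  | succ q ih =>
    intro F hF
    let S := SiteCoh.DimShift.inj F
    have hS : S.ShortExact := SiteCoh.DimShift.inj_shortExact F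
    exact (l.exact₁ S hS (q + 1) (q + 2) rfl).isZero_of_both_zeros
      ((ih (IsCompactAcyclic.quotient hS hF (isCompactAcyclic_of_injective S.X₂))).eq_of_src _ _)
      ((Functor.isZero_rightDerived_obj_injective_succ _ (q + 1) S.X₂).eq_of_tgt _ _)

theorem isZero_Rpush_kernel [Injective I] (q : ℕ) :
    IsZero ((EtCoh.Rpush f (q + 1)).obj (kernel (toLoc L I))) := by
  have : PreservesFiniteLimits (EtCoh.push f) :=
    ⟨fun K _ _ => ((EtCoh.pullPushAdj f).rightAdjoint_preservesLimits.preservesLimitsOfShape :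
      PreservesLimitsOfShape K (EtCoh.push f))⟩
  let l := Groth.Agent.RDerLES.derivedLES (EtCoh.push f)
  have hS := torsSeq_shortExact L I
  refine (l.exact₁ (torsSeq L I) hS q (q + 1) rfl).isZero_of_both_zeros ?_
    ((isZero_Rpush_of_isCompactAcyclic f q (isCompactAcyclic_of_injective I)).eq_of_tgt _ _)
  cases q with
  | zero =>
    have he : Epi ((EtCoh.push f).map (toLoc L I)) :=
      epi_push f _ fun U _ _ => surjective_toLoc L I U
    have he0 : Epi ((EtCoh.Rpush f 0).map (toLoc L I)) :=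
      ((MorphismProperty.epimorphisms (EtCoh.Ab Y)).arrow_mk_iso_iff
        (Arrow.isoMk ((EtCoh.push f).rightDerivedZeroIsoSelf.app I)
          ((EtCoh.push f).rightDerivedZeroIsoSelf.app (loc L I))
          ((EtCoh.push f).rightDerivedZeroIsoSelf.hom.naturality (toLoc L I)).symm :
          Arrow.mk ((EtCoh.Rpush f 0).map (toLoc L I)) ≅ Arrow.mk ((EtCoh.push f).map (toLoc L I)))).2 he
    exact (cancel_epi ((EtCoh.Rpush f 0).map (toLoc L I))).1
      ((l.comp_δ (torsSeq L I) hS 0 1 rfl).trans comp_zero.symm)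
  | succ q => exact (isZero_Rpush_of_isCompactAcyclic f q (isCompactAcyclic_loc L I)).eq_of_src _ _

/-- `R^q f_*` of an `L`-torsion sheaf is `L`-torsion. -/
theorem isLTorsion_Rpush (q : ℕ) : ∀ {F : EtCoh.Ab X}, EtAcyc.IsLTorsion L F →
    EtAcyc.IsLTorsion L ((EtCoh.Rpush f q).obj F) := by
  have : PreservesFiniteLimits (EtCoh.push f) :=
    ⟨fun K _ _ => ((EtCoh.pullPushAdj f).rightAdjoint_preservesLimits.preservesLimitsOfShape :
      PreservesLimitsOfShape K (EtCoh.push f))⟩
  induction q with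
  | zero =>
    intro F hF
    exact isLTorsion_of_epi L ((EtCoh.push f).rightDerivedZeroIsoSelf.app F).inv (isLTorsion_push L f hF)
  | succ q ih =>
    intro F hF
    let l := Groth.Agent.RDerLES.derivedLES (EtCoh.push f)
    let I := Injective.under F
    let ι : F ⟶ kernel (toLoc L I) := kernel.lift _ (Injective.ι F) (toLoc_eq_zero L I hF _)
    have : Mono ι := mono_of_mono_fac (kernel.lift_ι _ _ _)
    let S := ShortComplex.mk ι (cokernel.π ι) (cokernel.condition _)
    have hS : S.ShortExact :=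
      { exact := ShortComplex.exact_of_g_is_cokernel _ (cokernelIsCokernel _)
        mono_f := this
        epi_g := inferInstanceAs (Epi (cokernel.π ι)) }
    have hepi : Epi (l.δ S hS q (q + 1) rfl) :=
      (l.exact₁ S hS q (q + 1) rfl).epi_f ((isZero_Rpush_kernel L I f q).eq_of_tgt _ _)
    exact isLTorsion_of_epi L (l.δ S hS q (q + 1) rfl)
      (ih (isLTorsion_of_epi L (cokernel.π ι) (isLTorsion_kernel L I)))

end Groth.Agent.EtColim.TorsionPush
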