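import Groth.Agent.EtColim.Sections
import Groth.Agent.EtaleSite.CechSect
import Groth.Prelude.Def_EtCech
import Mathlib.Algebra.Homology.ShortComplex.Ab

/-!
# Čech complexes of finite families and filtered colimits on the small étale site

The iterated fibre products of quasi-compact quasi-separated objects are quasi-compact and
quasi-separated, so cochains and Čech cohomology classes of a filtered colimit of sheaves come from
finite stages.
-/

set_option autoImplicit false
set_option backward.isDefEq.respectTransparency false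

universe w w' u

open CategoryTheory CategoryTheory.Limits AlgebraicGeometry Opposite

noncomputable section

namespace Groth.Agent.EtColim.CechColim

open Groth.Agent.EtColim.Sections Groth.Agent.EtaleSite.CechPre

variable {X : Scheme.{u}}

theorem quasiSeparatedSpace_overlap {U V V' : X.Etale} [QuasiSeparatedSpace V.left]
    [QuasiSeparatedSpace V'.left] (g : V ⟶ U) (g' : V' ⟶ U) :
    QuasiSeparatedSpace (overlap g g').left := by
  haveI : QuasiSeparated g'.left := QuasiSeparated.of_quasiSeparatedSpace g'.left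
  haveI h : QuasiSeparated (pullback.fst g.left g'.left) :=
    MorphismProperty.pullback_fst (P := @QuasiSeparated) g.left g'.left ‹QuasiSeparated g'.left›
  exact @quasiSeparatedSpace_of_quasiSeparated (overlap g g').left V.left
    (pullback.fst g.left g'.left) ‹QuasiSeparatedSpace V.left› h

theorem compact_qs_of_iso {V W : X.Etale} (e : V ≅ W) [CompactSpace V.left]
    [QuasiSeparatedSpace V.left] : CompactSpace W.left ∧ QuasiSeparatedSpace W.left := by
  let e' : V.left ≅ W.left := ⟨e.hom.left, e.inv.left, congrArg (fun q => q.left) e.hom_inv_id,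
    congrArg (fun q => q.left) e.inv_hom_id⟩
  exact ⟨QuasiCompact.compactSpace_of_compactSpace e'.inv,
    quasiSeparatedSpace_of_quasiSeparated e'.inv⟩

variable {U : X.Etale} {ι : Type (u + 1)} (Uf : ι → Over U)

/-- The iterated fibre products are quasi-compact and quasi-separated. -/
theorem compact_qs_obj [QuasiSeparatedSpace U.left] (hc : ∀ i, CompactSpace (Uf i).left.left)
    (hq : ∀ i, QuasiSeparatedSpace (Uf i).left.left) : ∀ {n : ℕ} (a : Fin (n + 1) → ι),
      CompactSpace (obj Uf a).left ∧ QuasiSeparatedSpace (obj Uf a).left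
  | 0, a => by
    let s : (Uf (a 0)).left ⟶ obj Uf a :=
      (Pi.lift fun k => eqToHom (congrArg (fun j => Uf (a j)) (Subsingleton.elim (α := Fin 1) 0 k)) :
        Uf (a 0) ⟶ ∏ᶜ (Uf ∘ a)).left
    have hs : s ≫ π Uf a 0 = 𝟙 _ := by
      show (_ : Uf (a 0) ⟶ ∏ᶜ (Uf ∘ a)).left ≫ (Pi.π (Uf ∘ a) 0).left = _
      rw [← Over.comp_left, Pi.lift_π]
      rfl
    have hr : π Uf a 0 ≫ s = 𝟙 _ := hom_ext Uf fun k => by
      obtain rfl : k = 0 := Subsingleton.elim (α := Fin 1) _ _
      rw [Category.assoc, hs, Category.comp_id, Category.id_comp]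
    have := hc (a 0)
    have := hq (a 0)
    exact compact_qs_of_iso ⟨s, π Uf a 0, hs, hr⟩
  | n + 1, a => by
    let b : Fin (n + 1) → ι := fun j => a j.succ
    let P := ∏ᶜ (Uf ∘ b)
    obtain ⟨hbc, hbq⟩ := compact_qs_obj hc hq b
    have := hc (a 0)
    have := hq (a 0)
    let T := overlap (Uf (a 0)).hom P.hom
    have hTc : CompactSpace T.left := compactSpace_overlap (Uf (a 0)).hom P.hom
    have hTq : QuasiSeparatedSpace T.left := quasiSeparatedSpace_overlap (Uf (a 0)).hom P.hom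
    let t : ∏ᶜ (Uf ∘ a) ⟶ P := Pi.lift fun j => Pi.π (Uf ∘ a) j.succ
    obtain ⟨r, hr1, hr2⟩ := exists_factor (Uf (a 0)).hom P.hom (π Uf a 0) t.left
      ((π_hom Uf a 0).trans (Over.w t).symm)
    let T' : Over U := Over.mk (overlapFst (Uf (a 0)).hom P.hom ≫ (Uf (a 0)).hom)
    let p0 : T' ⟶ Uf (a 0) := Over.homMk (overlapFst _ _)
    let pP : T' ⟶ P := Over.homMk (overlapSnd _ _) (overlap_w _ _).symm
    let q : ∀ k : Fin (n + 2), T' ⟶ Uf (a k) :=
      Fin.cases p0 fun j => pP ≫ Pi.π (Uf ∘ b) j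
    let s : T ⟶ obj Uf a := (Pi.lift q : T' ⟶ ∏ᶜ (Uf ∘ a)).left
    have hsπ : ∀ k, s ≫ π Uf a k = (q k).left := fun k => by
      show (Pi.lift q : T' ⟶ ∏ᶜ (Uf ∘ a)).left ≫ (Pi.π (Uf ∘ a) k).left = _
      rw [← Over.comp_left, Pi.lift_π]
    have htπ : ∀ j : Fin (n + 1), t.left ≫ π Uf b j = π Uf a j.succ := fun j => by
      show t.left ≫ (Pi.π (Uf ∘ b) j).left = _
      rw [← Over.comp_left, Pi.lift_π]
    have hrs : r ≫ s = 𝟙 _ := hom_ext Uf fun k => by
      rw [Category.assoc, hsπ, Category.id_comp]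
      refine Fin.cases ?_ (fun j => ?_) k
      · exact hr1
      · show r ≫ overlapSnd _ _ ≫ π Uf b j = _
        rw [← Category.assoc, hr2, htπ]
    have h0 : s ≫ π Uf a 0 = overlapFst (Uf (a 0)).hom P.hom := hsπ 0
    have hst : s ≫ t.left = overlapSnd (Uf (a 0)).hom P.hom := hom_ext Uf fun j => by
      rw [Category.assoc, htπ, hsπ]
      rfl
    have hsr : s ≫ r = 𝟙 _ := by
      refine MorphismProperty.Over.Hom.ext (pullback.hom_ext ?_ ?_)
      · exact congrArg (fun m => m.left)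
          (show (s ≫ r) ≫ overlapFst _ _ = 𝟙 _ ≫ overlapFst _ _ by
            rw [Category.assoc, hr1, h0, Category.id_comp])
      · exact congrArg (fun m => m.left)
          (show (s ≫ r) ≫ overlapSnd _ _ = 𝟙 _ ≫ overlapSnd _ _ by
            rw [Category.assoc, hr2, hst, Category.id_comp])
    exact compact_qs_of_iso ⟨s, r, hsr, hrs⟩

/-- The map of Čech complexes of a morphism of sheaves. -/
abbrev chmap {F G : EtCoh.Ab X} (f : F ⟶ G) (n : ℕ) :
    (EtCech.cechComplex Uf F.obj).X n ⟶ (EtCech.cechComplex Uf G.obj).X n :=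
  ((cx Uf).map f.hom).f n

lemma comp_chmap {F G : EtCoh.Ab X} (f : F ⟶ G) {n : ℕ} (a : Fin (n + 1) → ι)
    (c : (EtCech.cechComplex Uf F.obj).X n) :
    comp Uf G.obj a (chmap Uf f n c) = f.hom.app (op (obj Uf a)) (comp Uf F.obj a c) :=
  EtaleSite.CechPre.comp_map Uf f.hom a c

lemma chmap_comp {F G H : EtCoh.Ab X} (f : F ⟶ G) (g : G ⟶ H) (n : ℕ)
    (c : (EtCech.cechComplex Uf F.obj).X n) :
    chmap Uf (f ≫ g) n c = chmap Uf g n (chmap Uf f n c) := by
  refine comp_ext Uf _ fun a => ?_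
  rw [comp_chmap, comp_chmap, comp_chmap]
  rfl

lemma chmap_d {F G : EtCoh.Ab X} (f : F ⟶ G) (m n : ℕ)
    (c : (EtCech.cechComplex Uf F.obj).X m) :
    chmap Uf f n ((EtCech.cechComplex Uf F.obj).d m n c) =
      (EtCech.cechComplex Uf G.obj).d m n (chmap Uf f m c) :=
  (ConcreteCategory.congr_hom (((cx Uf).map f.hom).comm m n) c).symm

variable [Finite ι] {I : Type w} [Category.{w'} I] [IsFiltered I]
  [HasColimitsOfShape I AddCommGrpCat.{u + 1}]
  [PreservesColimitsOfShape I (forget AddCommGrpCat.{u + 1})]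
  {D : I ⥤ EtCoh.Ab X} {c : Cocone D} (hD : IsColimit c)
  [QuasiSeparatedSpace U.left] (hc : ∀ i, CompactSpace (Uf i).left.left)
  (hq : ∀ i, QuasiSeparatedSpace (Uf i).left.left)

omit [Finite ι] [IsFiltered I] [HasColimitsOfShape I AddCommGrpCat.{u + 1}]
  [PreservesColimitsOfShape I (forget AddCommGrpCat.{u + 1})] [QuasiSeparatedSpace U.left] in
lemma chmap_w {i j : I} (φ : i ⟶ j) (n : ℕ) (x : (EtCech.cechComplex Uf (D.obj i).obj).X n) :
    chmap Uf (c.ι.app j) n (chmap Uf (D.map φ) n x) = chmap Uf (c.ι.app i) n x :=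
  (chmap_comp Uf (D.map φ) (c.ι.app j) n x).symm.trans
    (congrArg (fun f => chmap Uf f n x) (c.w φ))

include hD hc hq in
/-- Cochains of a filtered colimit come from a stage. -/
theorem exists_cochain_rep (n : ℕ) (x : (EtCech.cechComplex Uf c.pt.obj).X n) :
    ∃ (i : I) (x' : (EtCech.cechComplex Uf (D.obj i).obj).X n), chmap Uf (c.ι.app i) n x' = x := by
  classical
  have h : ∀ a : Fin (n + 1) → ι, ∃ (i : I) (t : EtCoh.sect (D.obj i) (obj Uf a)),
      (c.ι.app i).hom.app (op (obj Uf a)) t = comp Uf c.pt.obj a x := fun a => by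
    obtain ⟨h1, h2⟩ := compact_qs_obj Uf hc hq a
    exact exists_rep D c hD (obj Uf a) _
  choose i t ht using h
  letI := Fintype.ofFinite (Fin (n + 1) → ι)
  obtain ⟨m, hm⟩ := IsFiltered.sup_objs_exists (Finset.univ.image i)
  let φ : ∀ a, i a ⟶ m := fun a => (hm (Finset.mem_image_of_mem _ (Finset.mem_univ a))).some
  refine ⟨m, mk Uf _ fun a => (D.map (φ a)).hom.app (op (obj Uf a)) (t a),
    comp_ext Uf _ fun a => ?_⟩
  refine (comp_chmap Uf (c.ι.app m) a _).trans ?_
  rw [comp_mk]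
  refine Eq.trans ?_ (ht a)
  exact congrArg (fun f => f.hom.app (op (obj Uf a)) (t a)) (c.w (φ a))

include hD hc hq in
/-- A cochain vanishing in a filtered colimit vanishes at a stage. -/
theorem cochain_zero (n : ℕ) {i : I} (x : (EtCech.cechComplex Uf (D.obj i).obj).X n)
    (hx : chmap Uf (c.ι.app i) n x = 0) : ∃ (j : I) (φ : i ⟶ j), chmap Uf (D.map φ) n x = 0 := by
  classical
  have h : ∀ a : Fin (n + 1) → ι, ∃ (j : I) (φ : i ⟶ j),
      (D.map φ).hom.app (op (obj Uf a)) (comp Uf (D.obj i).obj a x) = 0 := fun a => by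
    obtain ⟨h1, h2⟩ := compact_qs_obj Uf hc hq a
    exact exists_map_eq_zero D c hD (obj Uf a) _
      ((EtaleSite.CechPre.comp_map Uf (c.ι.app i).hom a x).symm.trans ((congrArg (comp Uf _ a) hx).trans (map_zero _)))
  choose j φ hφ using h
  obtain ⟨m, ψ, hψ⟩ := exists_bound j φ
  refine ⟨m, ψ, comp_ext Uf _ fun a => ?_⟩
  obtain ⟨χ, hχ⟩ := hψ a
  rw [comp_chmap, map_zero, ← hχ, Functor.map_comp]
  show (D.map χ).hom.app _ ((D.map (φ a)).hom.app _ (comp Uf _ a x)) = 0
  rw [hφ a, map_zero]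

include hD hc hq in
/-- A cocycle of a filtered colimit comes from a cocycle at a stage. -/
theorem exists_cocycle_rep (n m : ℕ) (x : (EtCech.cechComplex Uf c.pt.obj).X n)
    (hx : (EtCech.cechComplex Uf c.pt.obj).d n m x = 0) :
    ∃ (i : I) (x' : (EtCech.cechComplex Uf (D.obj i).obj).X n),
      chmap Uf (c.ι.app i) n x' = x ∧ (EtCech.cechComplex Uf (D.obj i).obj).d n m x' = 0 := by
  obtain ⟨i, x', rfl⟩ := exists_cochain_rep Uf hD hc hq n x
  obtain ⟨j, φ, hφ⟩ := cochain_zero Uf hD hc hq m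
    ((EtCech.cechComplex Uf (D.obj i).obj).d n m x') ((chmap_d Uf (c.ι.app i) n m x').trans hx)
  exact ⟨j, chmap Uf (D.map φ) n x', chmap_w Uf φ n x', (chmap_d Uf (D.map φ) n m x').symm.trans hφ⟩

include hD hc hq in
/-- A cochain becoming a coboundary in a filtered colimit becomes one at a stage. -/
theorem exists_coboundary_rep (m n : ℕ) {i : I} (x : (EtCech.cechComplex Uf (D.obj i).obj).X n)
    (y : (EtCech.cechComplex Uf c.pt.obj).X m)
    (hy : (EtCech.cechComplex Uf c.pt.obj).d m n y = chmap Uf (c.ι.app i) n x) :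
    ∃ (j : I) (φ : i ⟶ j) (y' : (EtCech.cechComplex Uf (D.obj j).obj).X m),
      (EtCech.cechComplex Uf (D.obj j).obj).d m n y' = chmap Uf (D.map φ) n x := by
  obtain ⟨k, y', rfl⟩ := exists_cochain_rep Uf hD hc hq m y
  let α := IsFiltered.leftToMax i k
  let β := IsFiltered.rightToMax i k
  obtain ⟨j, φ, hφ⟩ := cochain_zero Uf hD hc hq n
    (chmap Uf (D.map α) n x - chmap Uf (D.map β) n ((EtCech.cechComplex Uf (D.obj k).obj).d m n y')) (by
      rw [map_sub, chmap_w, chmap_w, sub_eq_zero]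
      exact hy.symm.trans (chmap_d Uf (c.ι.app k) m n y').symm)
  refine ⟨j, α ≫ φ, chmap Uf (D.map φ) m (chmap Uf (D.map β) m y'), ?_⟩
  rw [← chmap_d, ← chmap_d, Functor.map_comp, chmap_comp]
  rw [map_sub, sub_eq_zero] at hφ
  exact hφ.symm

end Groth.Agent.EtColim.CechColim
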