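import Groth.Agent.EtColim.TorsionPush
import Groth.Agent.EtConsAb.ProperFibre
import Groth.Agent.GalCohAux.EtDimVanD
import Groth.Agent.GalCohAux.EtNsmul
import Groth.Agent.EtRamLib.Kummer.BaseChangeUnit

/-!
# Higher direct images of torsion kernels after base change

`isZero_Rpush_colimit`: filtered colimits of acyclic sheaves are acyclic for qcqs direct images;
`isZero_Rpush_pull_kernel`: if the `ℤ/ℓ`-injective sheaves are acyclic after pullback, so are torsion kernels.
-/

set_option autoImplicit false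
set_option backward.isDefEq.respectTransparency false
set_option linter.style.haveILetI false

universe u

open CategoryTheory CategoryTheory.Limits AlgebraicGeometry Opposite

noncomputable section

namespace Groth.Agent.EtColim.PullTors

open Groth.Agent Groth.Agent.EtColim.Sections Groth.Agent.EtColim.CohColim Groth.Agent.EtColim.TorsionPush

variable {X Y : Scheme.{u}}

/-- Exactness of direct image on the left. -/
theorem push_pfl (f : X ⟶ Y) : PreservesFiniteLimits (EtCoh.push f) :=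
  ⟨fun K _ _ => ((EtCoh.pullPushAdj f).rightAdjoint_preservesLimits.preservesLimitsOfShape :
    PreservesLimitsOfShape K (EtCoh.push f))⟩

theorem epi_Rpush_zero (f : X ⟶ Y) [EtCoh.BCCont f] {A B : EtCoh.Ab X} (φ : A ⟶ B)
    (h : Epi ((EtCoh.push f).map φ)) : Epi ((EtCoh.Rpush f 0).map φ) :=
  haveI := push_pfl f
  ((MorphismProperty.epimorphisms (EtCoh.Ab Y)).arrow_mk_iso_iff
    (Arrow.isoMk ((EtCoh.push f).rightDerivedZeroIsoSelf.app A)
      ((EtCoh.push f).rightDerivedZeroIsoSelf.app B)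
      ((EtCoh.push f).rightDerivedZeroIsoSelf.hom.naturality φ).symm :
      Arrow.mk ((EtCoh.Rpush f 0).map φ) ≅ Arrow.mk ((EtCoh.push f).map φ))).2 h

theorem epi_of_epi_Rpush_zero (f : X ⟶ Y) [EtCoh.BCCont f] {A B : EtCoh.Ab X} (φ : A ⟶ B)
    (h : Epi ((EtCoh.Rpush f 0).map φ)) : Epi ((EtCoh.push f).map φ) :=
  haveI := push_pfl f
  ((MorphismProperty.epimorphisms (EtCoh.Ab Y)).arrow_mk_iso_iff
    (Arrow.isoMk ((EtCoh.push f).rightDerivedZeroIsoSelf.app A)
      ((EtCoh.push f).rightDerivedZeroIsoSelf.app B)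
      ((EtCoh.push f).rightDerivedZeroIsoSelf.hom.naturality φ).symm :
      Arrow.mk ((EtCoh.Rpush f 0).map φ) ≅ Arrow.mk ((EtCoh.push f).map φ))).1 h

section Colimit

variable (f : X ⟶ Y) [QuasiCompact f] [QuasiSeparated f] [EtCoh.BCCont f]
  {J : Type u} [SmallCategory J] [IsFiltered J]

theorem isZero_Rpush_colimit (q : ℕ) : ∀ (D : J ⥤ EtCoh.Ab X),
    (∀ (b : ℕ) (i : J), IsZero ((EtCoh.Rpush f (b + 1)).obj (D.obj i))) →
      IsZero ((EtCoh.Rpush f (q + 1)).obj (colimit D)) := by
  haveI := push_pfl f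
  let l := Groth.Agent.RDerLES.derivedLES (EtCoh.push f)
  induction q with
  | zero =>
    intro D hD
    let η : D ⟶ D ⋙ emb X :=
      { app := fun i => (embι X).app (D.obj i), naturality := fun i j a => (embι X).naturality (D.map a) }
    haveI : Mono η := NatTrans.mono_of_mono_app η
    let S : ShortComplex (J ⥤ EtCoh.Ab X) := ShortComplex.mk η (cokernel.π η) (cokernel.condition η)
    have hS : S.ShortExact := { exact := ShortComplex.exact_cokernel η, mono_f := inferInstance }
    haveI : PreservesFiniteLimits (colim : (J ⥤ EtCoh.Ab X) ⥤ EtCoh.Ab X) := inferInstance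
    have hc : (S.map colim).ShortExact := hS.map_of_exact colim
    have hmid : IsZero ((EtCoh.Rpush f 1).obj (S.map colim).X₂) :=
      isZero_Rpush_of_isCompactAcyclic f 0
        (isCompactAcyclic_colimit (colimit.isColimit (D ⋙ emb X)) fun i => isCompactAcyclic_of_injective ((emb X).obj (D.obj i)))
    have he : Epi ((EtCoh.push f).map (S.map colim).g) := by
      refine (Sheaf.isLocallySurjective_iff_epi' AddCommGrpCat.{u + 1} _).1 ⟨fun {U} s => ?_⟩
      refine Groth.Agent.EtaleSite.mem_topology_of_forall_exists _ fun x => ?_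
      obtain ⟨V, g, hV, v, hv⟩ := affine_nbhd U x
      obtain ⟨_, _⟩ := compact_qs_bc f V
      obtain ⟨i, t, ht⟩ := exists_rep (cokernel η) (colimit.cocone _) (colimit.isColimit _)
        ((EtCoh.bc f).obj V) ((((EtCoh.push f).obj (S.map colim).X₃).obj.map g.op) s)
      have hi : (S.map ((evaluation J (EtCoh.Ab X)).obj i)).ShortExact := hS.map_of_exact _
      haveI : Epi ((EtCoh.Rpush f 0).map (S.map ((evaluation J (EtCoh.Ab X)).obj i)).g) :=
        (l.exact₃ _ hi 0 1 rfl).epi_f ((hD 0 i).eq_of_tgt _ _)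
      have hloc : Presheaf.IsLocallySurjective Y.smallEtaleTopology
          ((EtCoh.push f).map (S.map ((evaluation J (EtCoh.Ab X)).obj i)).g).hom :=
        (Sheaf.isLocallySurjective_iff_epi' AddCommGrpCat.{u + 1} _).2 (epi_of_epi_Rpush_zero f _ inferInstance)
      obtain ⟨V', k, v', ⟨r, hr⟩, hv'⟩ :=
        Groth.Agent.EtaleSite.Covers.exists_of_mem (hloc.imageSieve_mem (U := V) t) v
      refine ⟨V', k ≫ g, v', ⟨((EtCoh.push f).map (colimit.ι (D ⋙ emb X) i)).hom.app (op V') r, ?_⟩,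
        (congrArg g.left.base hv').trans hv⟩
      have hnat : colimit.ι (D ⋙ emb X) i ≫ (S.map colim).g =
          (S.map ((evaluation J (EtCoh.Ab X)).obj i)).g ≫ colimit.ι (cokernel η) i := ι_colimMap _ _
      have h1 := congrArg (fun a => ((EtCoh.push f).map a).hom.app (op V') r) hnat
      simp only [Functor.map_comp] at h1
      refine h1.trans ?_
      refine (congrArg (((EtCoh.push f).map (colimit.ι (cokernel η) i)).hom.app (op V')) hr).trans ?_
      rw [op_comp, Functor.map_comp]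
      refine (NatTrans.naturality_apply ((EtCoh.push f).map (colimit.ι (cokernel η) i)).hom k.op t).trans ?_
      exact congrArg _ ht
    haveI := epi_Rpush_zero f _ he
    exact (l.exact₁ _ hc 0 1 rfl).isZero_of_both_zeros
      ((cancel_epi ((EtCoh.Rpush f 0).map (S.map colim).g)).1 ((l.comp_δ _ hc 0 1 rfl).trans comp_zero.symm))
      (hmid.eq_of_tgt _ _)
  | succ q ih =>
    intro D hD
    let η : D ⟶ D ⋙ emb X :=
      { app := fun i => (embι X).app (D.obj i), naturality := fun i j a => (embι X).naturality (D.map a) }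
    haveI : Mono η := NatTrans.mono_of_mono_app η
    let S : ShortComplex (J ⥤ EtCoh.Ab X) := ShortComplex.mk η (cokernel.π η) (cokernel.condition η)
    have hS : S.ShortExact := { exact := ShortComplex.exact_cokernel η, mono_f := inferInstance }
    have hc : (S.map colim).ShortExact := hS.map_of_exact colim
    have hQ : ∀ (b : ℕ) (i : J), IsZero ((EtCoh.Rpush f (b + 1)).obj ((cokernel η).obj i)) := fun b i =>
      (l.exact₃ _ (hS.map_of_exact ((evaluation J (EtCoh.Ab X)).obj i)) (b + 1) (b + 2) rfl).isZero_of_both_zeros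
        ((Functor.isZero_rightDerived_obj_injective_succ _ b ((emb X).obj (D.obj i))).eq_of_src _ _)
        ((hD (b + 1) i).eq_of_tgt _ _)
    exact (l.exact₁ _ hc (q + 1) (q + 2) rfl).isZero_of_both_zeros ((ih _ hQ).eq_of_src _ _)
      ((isZero_Rpush_of_isCompactAcyclic f (q + 1)
        (isCompactAcyclic_colimit (colimit.isColimit (D ⋙ emb X))
          fun i => isCompactAcyclic_of_injective ((emb X).obj (D.obj i)))).eq_of_tgt _ _)

end Colimit

section Kernels

variable (I : EtCoh.Ab X) [Injective I]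

/-- The `n`-torsion of `I`. -/
abbrev Z (n : ℕ) : EtCoh.Ab X := kernel (n • 𝟙 I)

theorem surjective_nsmul {n : ℕ} (hn : 0 < n) (U : X.Etale) :
    Function.Surjective ((n • 𝟙 I : I ⟶ I).hom.app (op U)) := fun s => by
  have : Injective I.obj := Injective.injective_of_adjoint
    (sheafificationAdjunction X.smallEtaleTopology AddCommGrpCat.{u + 1}) I
  obtain ⟨t, ht⟩ := exists_nsmul_eq I.obj U s hn
  exact ⟨t, (GalCohAux.EtNsmul.nsmul_id_app I n U t).trans ht⟩

theorem epi_nsmul {n : ℕ} (hn : 0 < n) : Epi (n • 𝟙 I : I ⟶ I) :=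
  epi_of_affine _ fun U _ => surjective_nsmul I hn U

/-- The `n`-torsion of an injective sheaf is acyclic for qcqs direct images. -/
theorem isZero_Rpush_Z {n : ℕ} (hn : 0 < n) (f : X ⟶ Y) [QuasiCompact f] [QuasiSeparated f] [EtCoh.BCCont f]
    (q : ℕ) : IsZero ((EtCoh.Rpush f (q + 1)).obj (Z I n)) := by
  haveI := push_pfl f
  let l := Groth.Agent.RDerLES.derivedLES (EtCoh.push f)
  haveI := epi_nsmul I hn
  let S := ShortComplex.mk (kernel.ι (n • 𝟙 I)) (n • 𝟙 I) (kernel.condition _)
  have hS : S.ShortExact := { exact := ShortComplex.exact_kernel (n • 𝟙 I), mono_f := inferInstance, epi_g := inferInstance }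
  refine (l.exact₁ S hS q (q + 1) rfl).isZero_of_both_zeros ?_
    ((Functor.isZero_rightDerived_obj_injective_succ _ q I).eq_of_tgt _ _)
  cases q with
  | zero =>
    haveI := epi_Rpush_zero f S.g (epi_push f _ fun U _ _ => surjective_nsmul I hn U)
    exact (cancel_epi ((EtCoh.Rpush f 0).map S.g)).1 ((l.comp_δ S hS 0 1 rfl).trans comp_zero.symm)
  | succ q => exact (Functor.isZero_rightDerived_obj_injective_succ _ q I).eq_of_src _ _

omit [Injective I] in
theorem nsmul_id_eq_zero {F : EtCoh.Ab X} {n : ℕ} (h : EtCoh.KilledBy n F) : n • 𝟙 F = 0 := by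
  refine Sheaf.hom_ext (NatTrans.ext (funext fun U => ?_))
  ext s
  exact (GalCohAux.EtNsmul.nsmul_id_app F n U.unop s).trans (h U.unop s)

omit [Injective I] in
theorem killedBy_Z (n : ℕ) : EtCoh.KilledBy n (Z I n) :=
  fun U s => GalCohAux.EtNsmul.nsmul_sect_eq_zero (GalCohAux.EtNsmul.nsmul_id_kernel n) U s

/-- Injective among the sheaves killed by `n`. -/
theorem exists_extend (n : ℕ) (G : EtCoh.Ab X) (a : G ⟶ Z I n) {G' : EtCoh.Ab X} (m : G ⟶ G')
    (hG' : EtCoh.KilledBy n G') (hm : Mono m) : ∃ b : G' ⟶ Z I n, m ≫ b = a := by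
  refine ⟨kernel.lift _ (Injective.factorThru (a ≫ kernel.ι _) m) ?_, ?_⟩
  · rw [Preadditive.comp_nsmul, Category.comp_id,
      ← Category.id_comp (Injective.factorThru (a ≫ kernel.ι _) m), ← Preadditive.nsmul_comp,
      nsmul_id_eq_zero hG', zero_comp]
  · rw [← cancel_mono (kernel.ι (n • 𝟙 I)), Category.assoc, kernel.lift_ι, Injective.comp_factorThru]

theorem isZero_Rpush_pull_Z {X' Y' : Scheme.{u}} (g' : X' ⟶ X) [PreservesFiniteLimits (EtCoh.pull g')]
    (f' : X' ⟶ Y') [EtCoh.BCCont f']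
    (h : ∀ ℓ : ℕ, ℓ.Prime → ∀ q : ℕ, IsZero ((EtCoh.Rpush f' (q + 1)).obj ((EtCoh.pull g').obj (Z I ℓ)))) :
    ∀ n : ℕ, 0 < n → ∀ q : ℕ, IsZero ((EtCoh.Rpush f' (q + 1)).obj ((EtCoh.pull g').obj (Z I n))) := by
  haveI := push_pfl f'
  let l := Groth.Agent.RDerLES.derivedLES (EtCoh.push f')
  intro n
  induction n using Nat.strong_induction_on with
  | _ n ih =>
  intro hn q
  rcases Nat.lt_or_ge 1 n with hn1 | hn1
  · obtain ⟨ℓ, hℓ, hdvd⟩ := Nat.exists_prime_and_dvd hn1.ne'
    obtain ⟨m, rfl⟩ := hdvd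
    have hm : 0 < m := Nat.pos_of_mul_pos_left hn
    have hmlt : m < ℓ * m := lt_mul_of_one_lt_left hm hℓ.one_lt
    haveI := epi_nsmul I hℓ.pos
    have hcond : (kernel.ι ((ℓ * m) • 𝟙 I) ≫ (ℓ • 𝟙 I)) ≫ (m • 𝟙 I) = 0 := by
      rw [Category.assoc, Preadditive.nsmul_comp, Category.id_comp, smul_smul, kernel.condition]
    have hcond' : kernel.ι (ℓ • 𝟙 I) ≫ ((ℓ * m) • 𝟙 I) = 0 := by
      rw [mul_comm, mul_smul, Preadditive.comp_nsmul, kernel.condition, smul_zero]
    let a : Z I ℓ ⟶ Z I (ℓ * m) := kernel.lift _ (kernel.ι _) hcond'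
    let b : Z I (ℓ * m) ⟶ Z I m := kernel.lift _ (kernel.ι _ ≫ (ℓ • 𝟙 I)) hcond
    have hab : a ≫ b = 0 := by
      rw [← cancel_mono (kernel.ι (m • 𝟙 I)), zero_comp, Category.assoc, kernel.lift_ι, kernel.lift_ι_assoc,
        kernel.condition]
    haveI : Mono a := mono_of_mono_fac (kernel.lift_ι _ _ _)
    haveI : Epi b := by
      let P := pullback.fst (kernel.ι (m • 𝟙 I)) (ℓ • 𝟙 I)
      let s : pullback (kernel.ι (m • 𝟙 I)) (ℓ • 𝟙 I) ⟶ Z I (ℓ * m) :=
        kernel.lift _ (pullback.snd _ _) (by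
          have e : ((ℓ * m) • 𝟙 I : I ⟶ I) = (ℓ • 𝟙 I) ≫ (m • 𝟙 I) := by
            rw [Preadditive.nsmul_comp, Category.id_comp, smul_smul]
          rw [e, ← Category.assoc, ← pullback.condition, Category.assoc, kernel.condition, comp_zero])
      have hs : s ≫ b = P := by
        rw [← cancel_mono (kernel.ι (m • 𝟙 I)), Category.assoc, kernel.lift_ι, kernel.lift_ι_assoc,
          ← pullback.condition]
      exact epi_of_epi_fac hs
    let S := ShortComplex.mk a b hab
    have hS : S.ShortExact :=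
      { exact := ShortComplex.exact_of_f_is_kernel _ (KernelFork.IsLimit.ofι' a hab fun {W} k hk =>
          ⟨kernel.lift _ (k ≫ kernel.ι _) (by
              have h1 := congrArg (· ≫ kernel.ι (m • 𝟙 I)) hk
              simp only [b, Category.assoc, kernel.lift_ι, zero_comp] at h1
              rw [Category.assoc]
              exact h1), by
            rw [← cancel_mono (kernel.ι ((ℓ * m) • 𝟙 I)), Category.assoc]
            exact (congrArg (_ ≫ ·) (kernel.lift_ι _ _ _)).trans (kernel.lift_ι _ _ _)⟩)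
        mono_f := inferInstance
        epi_g := inferInstance }
    exact (l.exact₂ _ (hS.map_of_exact (EtCoh.pull g')) (q + 1)).isZero_of_both_zeros
      ((h ℓ hℓ q).eq_of_src _ _) ((ih m hmlt hm q).eq_of_tgt _ _)
  · obtain rfl : n = 1 := by omega
    have hz : IsZero (Z I 1) := by
      rw [IsZero.iff_id_eq_zero, ← cancel_mono (kernel.ι (1 • 𝟙 I)), zero_comp, Category.id_comp]
      have := kernel.condition (1 • 𝟙 I)
      simp only [Preadditive.comp_nsmul, Category.comp_id] at this
      exact (one_smul ℕ _).symm.trans this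
    exact Functor.map_isZero _ ((EtCoh.pull g').map_isZero hz)

/-- The torsion kernel is acyclic after pullback if the `ℤ/ℓ`-injective sheaves are. -/
theorem isZero_Rpush_pull_kernel (L : Set ℕ) {X' Y' : Scheme.{u}} (g' : X' ⟶ X)
    [PreservesFiniteLimits (EtCoh.pull g')] (f' : X' ⟶ Y') [QuasiCompact f'] [QuasiSeparated f'] [EtCoh.BCCont f']
    (h : ∀ ℓ : ℕ, ℓ.Prime → ∀ q : ℕ, IsZero ((EtCoh.Rpush f' (q + 1)).obj ((EtCoh.pull g').obj (Z I ℓ))))
    (q : ℕ) : IsZero ((EtCoh.Rpush f' (q + 1)).obj ((EtCoh.pull g').obj (kernel (toLoc L I)))) := by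
  haveI := push_pfl f'
  haveI : IsConnected (Idx.{u} L) := IsFiltered.isConnected _
  let C : Idx.{u} L ⥤ EtCoh.Ab X := (Functor.const _).obj I
  let τ : C ⟶ mulDiag L I :=
    { app := fun a => a.m • 𝟙 I
      naturality := fun a b k => by
        show 𝟙 I ≫ (b.m • 𝟙 I) = (a.m • 𝟙 I) ≫ ((b.m / a.m) • 𝟙 I)
        rw [Category.id_comp, Preadditive.nsmul_comp, Category.id_comp, smul_smul,
          Nat.mul_div_cancel' (leOfHom k : a.m ∣ b.m)] }
  let b₁ : Idx.{u} L := ⟨1, primesIn_one⟩
  let φ : I ≅ colimit C :=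
    { hom := colimit.ι C b₁
      inv := colimit.desc C { pt := I, ι := { app := fun _ => 𝟙 I, naturality := fun _ _ _ => by simp [C] } }
      hom_inv_id := colimit.ι_desc _ _
      inv_hom_id := colimit.hom_ext fun a => by
        rw [colimit.ι_desc_assoc, Category.comp_id]
        have := colimit.w C (homOfLE (one_dvd a.m) : b₁ ⟶ a)
        show 𝟙 I ≫ colimit.ι C b₁ = _
        rw [← this]
        simp [C] }
  have hφ : toLoc L I = φ.hom ≫ colim.map τ := by
    show _ = colimit.ι C b₁ ≫ colimMap τ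
    rw [ι_colimMap]
    show _ = ((1 : ℕ) • 𝟙 I) ≫ colimit.ι (mulDiag L I) b₁
    rw [one_smul, Category.id_comp]
    rfl
  let e : kernel (toLoc L I) ≅ colimit (kernel τ) :=
    kernel.mapIso _ (colim.map τ) φ (Iso.refl _) (by rw [Iso.refl_hom, Category.comp_id, hφ]) ≪≫
      (PreservesKernel.iso (colim : (Idx.{u} L ⥤ EtCoh.Ab X) ⥤ EtCoh.Ab X) τ).symm
  haveI : PreservesColimitsOfSize.{u, u} (EtCoh.pull g') := (EtCoh.pullPushAdj g').leftAdjoint_preservesColimits
  refine IsZero.of_iso ?_ ((EtCoh.Rpush f' (q + 1)).mapIso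
    ((EtCoh.pull g').mapIso e ≪≫ preservesColimitIso (EtCoh.pull g') (kernel τ)))
  refine isZero_Rpush_colimit f' q _ fun b a => ?_
  exact IsZero.of_iso (isZero_Rpush_pull_Z I g' f' h a.m a.prop.1 b)
    ((EtCoh.Rpush f' (b + 1)).mapIso ((EtCoh.pull g').mapIso
      (PreservesKernel.iso ((evaluation (Idx.{u} L) (EtCoh.Ab X)).obj a) τ)))

end Kernels

end Groth.Agent.EtColim.PullTors
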