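import Groth.Agent.EtColim.PullTors

/-!
# Acyclic sheaves and composites of direct images

`isZero_Rpush_comp_iff`: for `M` acyclic for `f_*`, `R^q (f ≫ g)_* M = 0` iff `R^q g_* (f_* M) = 0`.
-/

set_option autoImplicit false
set_option backward.isDefEq.respectTransparency false
set_option linter.style.haveILetI false

universe u

open CategoryTheory CategoryTheory.Limits AlgebraicGeometry Opposite

noncomputable section

namespace Groth.Agent.EtColim.PushCompAcy

open Groth.Agent Groth.Agent.EtColim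

variable {X Y Z : Scheme.{u}}

theorem injective_push (f : X ⟶ Y) (I : EtCoh.Ab X) [Injective I] : Injective ((EtCoh.push f).obj I) :=
  haveI := EtaleSite.preservesFiniteLimits_pull f
  Injective.injective_of_adjoint (EtCoh.pullPushAdj f) I

theorem isZero_Rpush_one_iff (h : X ⟶ Z) [EtCoh.BCCont h] (S : ShortComplex (EtCoh.Ab X)) (hS : S.ShortExact)
    (hI : IsZero ((EtCoh.Rpush h 1).obj S.X₂)) :
    IsZero ((EtCoh.Rpush h 1).obj S.X₁) ↔ Epi ((EtCoh.push h).map S.g) := by
  haveI := PullTors.push_pfl h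
  let l := Groth.Agent.RDerLES.derivedLES (EtCoh.push h)
  refine ⟨fun h1 => PullTors.epi_of_epi_Rpush_zero h _ ((l.exact₃ S hS 0 1 rfl).epi_f (h1.eq_of_tgt _ _)),
    fun he => ?_⟩
  haveI := PullTors.epi_Rpush_zero h _ he
  exact (l.exact₁ S hS 0 1 rfl).isZero_of_both_zeros
    ((cancel_epi ((EtCoh.Rpush h 0).map S.g)).1 ((l.comp_δ S hS 0 1 rfl).trans comp_zero.symm))
    (hI.eq_of_tgt _ _)

theorem isZero_Rpush_succ_iff (h : X ⟶ Z) [EtCoh.BCCont h] (S : ShortComplex (EtCoh.Ab X)) (hS : S.ShortExact)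
    (q : ℕ) (hI : ∀ b, IsZero ((EtCoh.Rpush h (b + 1)).obj S.X₂)) :
    IsZero ((EtCoh.Rpush h (q + 2)).obj S.X₁) ↔ IsZero ((EtCoh.Rpush h (q + 1)).obj S.X₃) := by
  haveI := PullTors.push_pfl h
  let l := Groth.Agent.RDerLES.derivedLES (EtCoh.push h)
  exact ⟨fun h1 => (l.exact₃ S hS (q + 1) (q + 2) rfl).isZero_of_both_zeros ((hI q).eq_of_src _ _) (h1.eq_of_tgt _ _),
    fun h3 => (l.exact₁ S hS (q + 1) (q + 2) rfl).isZero_of_both_zeros (h3.eq_of_src _ _) ((hI (q + 1)).eq_of_tgt _ _)⟩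

theorem isZero_Rpush_comp_iff (f : X ⟶ Y) (g : Y ⟶ Z) [EtCoh.BCCont f] [EtCoh.BCCont g] [EtCoh.BCCont (f ≫ g)]
    (q : ℕ) : ∀ (M : EtCoh.Ab X), (∀ b, IsZero ((EtCoh.Rpush f (b + 1)).obj M)) →
      (IsZero ((EtCoh.Rpush (f ≫ g) (q + 1)).obj M) ↔
        IsZero ((EtCoh.Rpush g (q + 1)).obj ((EtCoh.push f).obj M))) := by
  haveI := PullTors.push_pfl f
  haveI := PullTors.push_pfl g
  haveI := PullTors.push_pfl (f ≫ g)
  induction q with
  | zero =>
    intro M hM
    let S := SiteCoh.DimShift.inj M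
    have hS : S.ShortExact := SiteCoh.DimShift.inj_shortExact M
    haveI : Epi ((EtCoh.push f).map S.g) :=
      (isZero_Rpush_one_iff f S hS (Functor.isZero_rightDerived_obj_injective_succ _ 0 S.X₂)).1 (hM 0)
    have hfS : (S.map (EtCoh.push f)).ShortExact :=
      { exact := (hS.exact.map_of_mono_of_preservesKernel _ hS.mono_f inferInstance)
        mono_f := by haveI := hS.mono_f; exact inferInstanceAs (Mono ((EtCoh.push f).map S.f))
        epi_g := ‹_› }
    haveI := injective_push f S.X₂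
    rw [isZero_Rpush_one_iff (f ≫ g) S hS (Functor.isZero_rightDerived_obj_injective_succ _ 0 S.X₂)]
    refine Iff.trans ?_ (isZero_Rpush_one_iff g (S.map (EtCoh.push f)) hfS
      (Functor.isZero_rightDerived_obj_injective_succ _ 0 ((EtCoh.push f).obj S.X₂))).symm
    exact ((MorphismProperty.epimorphisms (EtCoh.Ab Z)).arrow_mk_iso_iff
      (Arrow.isoMk ((EtCoh.pushComp g f).app S.X₂) ((EtCoh.pushComp g f).app S.X₃)
        ((EtCoh.pushComp g f).hom.naturality S.g).symm :
        Arrow.mk ((EtCoh.push g).map ((EtCoh.push f).map S.g)) ≅ Arrow.mk ((EtCoh.push (f ≫ g)).map S.g))).symm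
  | succ q ih =>
    intro M hM
    let S := SiteCoh.DimShift.inj M
    have hS : S.ShortExact := SiteCoh.DimShift.inj_shortExact M
    have hIf : ∀ b, IsZero ((EtCoh.Rpush f (b + 1)).obj S.X₂) := fun b =>
      Functor.isZero_rightDerived_obj_injective_succ _ b S.X₂
    haveI : Epi ((EtCoh.push f).map S.g) := (isZero_Rpush_one_iff f S hS (hIf 0)).1 (hM 0)
    have hfS : (S.map (EtCoh.push f)).ShortExact :=
      { exact := (hS.exact.map_of_mono_of_preservesKernel _ hS.mono_f inferInstance)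
        mono_f := by haveI := hS.mono_f; exact inferInstanceAs (Mono ((EtCoh.push f).map S.f))
        epi_g := ‹_› }
    haveI := injective_push f S.X₂
    have hQ : ∀ b, IsZero ((EtCoh.Rpush f (b + 1)).obj S.X₃) := fun b =>
      (isZero_Rpush_succ_iff f S hS b hIf).1 (hM (b + 1))
    exact (isZero_Rpush_succ_iff (f ≫ g) S hS q fun b => Functor.isZero_rightDerived_obj_injective_succ _ b S.X₂).trans
      ((ih S.X₃ hQ).trans (isZero_Rpush_succ_iff g (S.map (EtCoh.push f)) hfS q fun b =>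
        Functor.isZero_rightDerived_obj_injective_succ _ b ((EtCoh.push f).obj S.X₂)).symm)

theorem killedBy_map {A : EtCoh.Ab X} {n : ℕ} (hA : EtCoh.KilledBy n A) (f : X ⟶ Y) :
    EtCoh.KilledBy n ((EtCoh.push f).obj A) := by
  haveI := PullTors.push_pfl f
  haveI : (EtCoh.push f).Additive := inferInstance
  intro U s
  refine GalCohAux.EtNsmul.nsmul_sect_eq_zero ?_ U s
  rw [← CategoryTheory.Functor.map_id, ← Functor.map_nsmul, PullTors.nsmul_id_eq_zero hA, Functor.map_zero]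

theorem killedBy_pull {A : EtCoh.Ab Y} {n : ℕ} (hA : EtCoh.KilledBy n A) (f : X ⟶ Y) :
    EtCoh.KilledBy n ((EtCoh.pull f).obj A) := by
  haveI := EtaleSite.preservesFiniteLimits_pull f
  haveI : (EtCoh.pull f).Additive := inferInstance
  intro U s
  refine GalCohAux.EtNsmul.nsmul_sect_eq_zero ?_ U s
  rw [← CategoryTheory.Functor.map_id, ← Functor.map_nsmul, PullTors.nsmul_id_eq_zero hA, Functor.map_zero]

/-- Direct images preserve injectivity among sheaves killed by `n`. -/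
theorem exists_extend_push (f : X ⟶ Y) {n : ℕ} {I : EtCoh.Ab X}
    (hI : ∀ (G : EtCoh.Ab X), EtCoh.KilledBy n G → ∀ (a : G ⟶ I) {G' : EtCoh.Ab X} (m : G ⟶ G'),
      EtCoh.KilledBy n G' → Mono m → ∃ b : G' ⟶ I, m ≫ b = a)
    (G : EtCoh.Ab Y) (hG : EtCoh.KilledBy n G) (a : G ⟶ (EtCoh.push f).obj I) {G' : EtCoh.Ab Y} (m : G ⟶ G')
    (hG' : EtCoh.KilledBy n G') (hm : Mono m) : ∃ b : G' ⟶ (EtCoh.push f).obj I, m ≫ b = a := by
  haveI := EtaleSite.preservesFiniteLimits_pull f
  obtain ⟨b, hb⟩ := hI _ (killedBy_pull hG f) (((EtCoh.pullPushAdj f).homEquiv _ _).symm a)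
    ((EtCoh.pull f).map m) (killedBy_pull hG' f) inferInstance
  refine ⟨(EtCoh.pullPushAdj f).homEquiv _ _ b, ?_⟩
  rw [← Adjunction.homEquiv_naturality_left, hb, Equiv.apply_symm_apply]

end Groth.Agent.EtColim.PushCompAcy
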