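import Groth.Agent.EtColim.Sections
import Groth.Prelude.Def_EtBase
import Mathlib.CategoryTheory.Sites.Limits
import Mathlib.CategoryTheory.Limits.ConcreteCategory.Basic
import Mathlib.CategoryTheory.Filtered.Basic
import Mathlib.AlgebraicGeometry.Morphisms.Etale
import Mathlib.AlgebraicGeometry.Morphisms.QuasiSeparated
import Mathlib.AlgebraicGeometry.Morphisms.FlatMono

/-!
# Sections of colimits of sheaves of sets on the small étale site
-/

universe w w' u

open CategoryTheory CategoryTheory.Limits AlgebraicGeometry Opposite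

namespace Groth.Agent.EtColim.SectionsType

open Groth.Agent.EtColim.Sections (overlap overlapFst overlapSnd overlap_w exists_factor compactSpace_overlap)

variable {X : Scheme.{u}}

section Glue

variable (F : Sheaf X.smallEtaleTopology (Type (u + 1))) {U : X.Etale} {ι : Type u} {V : ι → X.Etale} (g : ∀ k, V k ⟶ U)
  (hg : ∀ u : U.left, ∃ (k : ι) (v : (V k).left), (g k).left v = u)

include hg

theorem exists_unique_glue (x : ∀ k, F.obj.obj (op (V k)))
    (hx : ∀ k l, F.obj.map (overlapFst (g k) (g l)).op (x k) = F.obj.map (overlapSnd (g k) (g l)).op (x l)) :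
    ∃! t : F.obj.obj (op U), ∀ k, F.obj.map (g k).op t = x k := by
  have hF : Presieve.IsSheaf X.smallEtaleTopology F.obj :=
    (isSheaf_iff_isSheaf_of_type _ _).1 F.property
  have hmem : Sieve.generate (Presieve.ofArrows V g) ∈ X.smallEtaleTopology U :=
    Groth.Agent.EtaleSite.mem_topology_of_forall_exists _ fun u => by
      obtain ⟨k, v, hv⟩ := hg u
      exact ⟨V k, g k, v, Sieve.le_generate _ _ _ (Presieve.ofArrows.mk k), hv⟩
  have := (Presieve.isSheafFor_iff_generate _).2 (hF _ hmem)
  rw [Presieve.isSheafFor_arrows_iff] at this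
  refine this x fun k l Z a b hab => ?_
  obtain ⟨c, rfl, rfl⟩ := exists_factor (g k) (g l) a b hab
  simp only [op_comp, Functor.map_comp]
  exact congrArg (F.obj.map c.op) (hx k l)

theorem ext_of_cover (s t : F.obj.obj (op U)) (h : ∀ k, F.obj.map (g k).op s = F.obj.map (g k).op t) :
    s = t :=
  (exists_unique_glue F g hg (fun k => F.obj.map (g k).op t) fun k l => by
    rw [← ConcreteCategory.comp_apply, ← Functor.map_comp, ← ConcreteCategory.comp_apply,
      ← Functor.map_comp, ← op_comp, ← op_comp, overlap_w]).unique h fun _ => rfl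

end Glue

section Colimit

variable {I : Type w} [Category.{w'} I] [IsFiltered I]
  [HasColimitsOfShape I (Type (u + 1))]
  (D : I ⥤ Sheaf X.smallEtaleTopology (Type (u + 1)))

/-- Two sections equal in a filtered colimit of sheaves are equal at a finite stage. -/
theorem exists_map_eq (c : Cocone D) (hc : IsColimit c) (U : X.Etale) [CompactSpace U.left] {i : I}
    (s t : (D.obj i).obj.obj (op U))
    (h : (c.ι.app i).hom.app (op U) s = (c.ι.app i).hom.app (op U) t) :
    ∃ (j : I) (φ : i ⟶ j), (D.map φ).hom.app (op U) s = (D.map φ).hom.app (op U) t := by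
  let E := colimit.cocone (D ⋙ sheafToPresheaf X.smallEtaleTopology (Type (u + 1)))
  let e := hc.coconePointUniqueUpToIso (Sheaf.isColimitSheafifyCocone E (colimit.isColimit _))
  have h1 : c.ι.app i ≫ e.hom = (Sheaf.sheafifyCocone E).ι.app i :=
    IsColimit.comp_coconePointUniqueUpToIso_hom _ _ _
  have h2 : ((Sheaf.sheafifyCocone E).ι.app i).hom.app (op U) s =
      ((Sheaf.sheafifyCocone E).ι.app i).hom.app (op U) t := by
    rw [← h1]
    exact congrArg (e.hom.hom.app (op U)) h
  rw [Sheaf.sheafifyCocone_ι_app_val] at h2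
  obtain ⟨κ, _, V, g, hg, -, hsurj⟩ :=
    Sections.exists_finite_refinement (Presheaf.equalizerSieve_mem X.smallEtaleTopology
      (toSheafify X.smallEtaleTopology E.pt) _ _ h2)
  have hk : ∀ k : κ, ∃ (j : I) (φ : i ⟶ j),
      (D.map φ).hom.app (op (V k)) ((D.obj i).obj.map (g k).op s) =
        (D.map φ).hom.app (op (V k)) ((D.obj i).obj.map (g k).op t) := fun k => by
    have hz : (E.ι.app i).app (op (V k)) ((D.obj i).obj.map (g k).op s) =
        (E.ι.app i).app (op (V k)) ((D.obj i).obj.map (g k).op t) :=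
      (NatTrans.naturality_apply (E.ι.app i) (g k).op s).trans
        ((hg k).trans (NatTrans.naturality_apply (E.ι.app i) (g k).op t).symm)
    have hev := isColimitOfPreserves
      ((evaluation X.Etaleᵒᵖ (Type (u + 1))).obj (op (V k))) (colimit.isColimit
        (D ⋙ sheafToPresheaf X.smallEtaleTopology (Type (u + 1))))
    obtain ⟨j, φ, ψ, hφ⟩ := (Concrete.isColimit_rep_eq_iff_exists _ hev _ _).1 hz
    obtain ⟨m, α, hα⟩ : ∃ (m : I) (α : j ⟶ m), φ ≫ α = ψ ≫ α :=
      ⟨_, IsFiltered.coeqHom φ ψ, IsFiltered.coeq_condition φ ψ⟩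
    refine ⟨m, φ ≫ α, ?_⟩
    conv_rhs => rw [hα]
    rw [Functor.map_comp, Functor.map_comp]
    exact congrArg ((D.map α).hom.app (op (V k))) hφ
  choose j φ hφ using hk
  obtain ⟨m, ψ, hm⟩ := Sections.exists_bound j φ
  refine ⟨m, ψ, ext_of_cover (D.obj m) g hsurj _ _ fun k => ?_⟩
  obtain ⟨χ, hχ⟩ := hm k
  refine (NatTrans.naturality_apply (D.map ψ).hom (g k).op s).symm.trans
    (Eq.trans ?_ (NatTrans.naturality_apply (D.map ψ).hom (g k).op t))
  rw [← hχ, Functor.map_comp]
  exact congrArg ((D.map χ).hom.app (op (V k))) (hφ k)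

/-- Every section of a filtered colimit of sheaves over a quasi-compact quasi-separated object comes
from a finite stage. -/
theorem exists_rep (c : Cocone D) (hc : IsColimit c) (U : X.Etale) [CompactSpace U.left]
    [QuasiSeparatedSpace U.left] (s : c.pt.obj.obj (op U)) :
    ∃ (i : I) (t : (D.obj i).obj.obj (op U)), (c.ι.app i).hom.app (op U) t = s := by
  classical
  let E := colimit.cocone (D ⋙ sheafToPresheaf X.smallEtaleTopology (Type (u + 1)))
  let e := hc.coconePointUniqueUpToIso (Sheaf.isColimitSheafifyCocone E (colimit.isColimit _))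
  have hfin := Sections.exists_finite_refinement (Presheaf.imageSieve_mem X.smallEtaleTopology
    (toSheafify X.smallEtaleTopology E.pt) (e.hom.hom.app (op U) s))
  obtain ⟨κ, hκ, V, g, hg, ha, hsurj⟩ := hfin
  have hk : ∀ k : κ, ∃ (i : I) (t : (D.obj i).obj.obj (op (V k))),
      (c.ι.app i).hom.app (op (V k)) t = c.pt.obj.map (g k).op s := fun k => by
    obtain ⟨p, hp⟩ := hg k
    have hev := isColimitOfPreserves
      ((evaluation X.Etaleᵒᵖ (Type (u + 1))).obj (op (V k))) (colimit.isColimit
        (D ⋙ sheafToPresheaf X.smallEtaleTopology (Type (u + 1))))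
    obtain ⟨i, t, rfl⟩ := Concrete.isColimit_exists_rep _ hev p
    refine ⟨i, t, (ConcreteCategory.bijective_of_isIso
      (((sheafToPresheaf _ _).mapIso e).app (op (V k))).hom).1 ?_⟩
    have h1 : c.ι.app i ≫ e.hom = (Sheaf.sheafifyCocone E).ι.app i :=
      IsColimit.comp_coconePointUniqueUpToIso_hom _ _ _
    have h2 : e.hom.hom.app (op (V k)) ((c.ι.app i).hom.app (op (V k)) t) =
        (toSheafify X.smallEtaleTopology E.pt).app (op (V k)) ((E.ι.app i).app (op (V k)) t) := by
      show (c.ι.app i ≫ e.hom).hom.app (op (V k)) t = _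
      rw [h1, Sheaf.sheafifyCocone_ι_app_val]
      rfl
    exact h2.trans (hp.trans (NatTrans.naturality_apply e.hom.hom (g k).op s).symm)
  choose i t ht using hk
  letI := Fintype.ofFinite κ
  obtain ⟨i₀, hi₀⟩ := IsFiltered.sup_objs_exists (Finset.univ.image i)
  let u : ∀ k, i k ⟶ i₀ := fun k => (hi₀ (Finset.mem_image_of_mem _ (Finset.mem_univ k))).some
  let t' : ∀ k, (D.obj i₀).obj.obj (op (V k)) := fun k => (D.map (u k)).hom.app (op (V k)) (t k)
  have ht' : ∀ k, (c.ι.app i₀).hom.app (op (V k)) (t' k) = c.pt.obj.map (g k).op s := fun k => by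
    rw [← ht k, ← c.w (u k)]
    rfl
  have hov : ∀ q : κ × κ, ∃ (j : I) (φ : i₀ ⟶ j),
      (D.map φ).hom.app (op (overlap (g q.1) (g q.2)))
          ((D.obj i₀).obj.map (overlapFst (g q.1) (g q.2)).op (t' q.1)) =
        (D.map φ).hom.app (op (overlap (g q.1) (g q.2)))
          ((D.obj i₀).obj.map (overlapSnd (g q.1) (g q.2)).op (t' q.2)) := fun q => by
    have := ha q.1
    have := ha q.2
    have := compactSpace_overlap (g q.1) (g q.2)
    refine exists_map_eq D c hc _ _ _ ?_
    rw [NatTrans.naturality_apply, NatTrans.naturality_apply]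
    refine (congrArg (c.pt.obj.map (overlapFst (g q.1) (g q.2)).op) (ht' q.1)).trans
      (Eq.trans ?_ (congrArg (c.pt.obj.map (overlapSnd (g q.1) (g q.2)).op) (ht' q.2)).symm)
    rw [← ConcreteCategory.comp_apply, ← Functor.map_comp, ← ConcreteCategory.comp_apply,
      ← Functor.map_comp, ← op_comp, ← op_comp, overlap_w]
  choose j φ hφ using hov
  obtain ⟨m, ψ, hm⟩ := Sections.exists_bound j φ
  obtain ⟨T, hT, -⟩ := exists_unique_glue (D.obj m) g
    hsurj
    (fun k => (D.map ψ).hom.app (op (V k)) (t' k)) fun k l => by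
      obtain ⟨χ, hχ⟩ := hm (k, l)
      refine (NatTrans.naturality_apply (D.map ψ).hom _ _).symm.trans
        (Eq.trans ?_ (NatTrans.naturality_apply (D.map ψ).hom _ _))
      rw [← hχ, Functor.map_comp]
      exact congrArg ((D.map χ).hom.app (op (overlap (g k) (g l)))) (hφ (k, l))
  refine ⟨m, T, ext_of_cover c.pt g
    hsurj _ _ fun k => ?_⟩
  rw [← ht' k, ← c.w ψ]
  refine (NatTrans.naturality_apply (c.ι.app m).hom (g k).op T).symm.trans ?_
  rw [hT k]
  rfl

end Colimit

end Groth.Agent.EtColim.SectionsType
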